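import Cfsg.Agent.H67.Focal.SL2
import Cfsg.Prelude.Def_LocalEven

/-!
Quadratic action: on natural modules, and on an irreducible module from the irreducible constituents
of a normal subgroup of a normal subgroup.
-/

set_option autoImplicit false
set_option linter.unusedSectionVars false

namespace Cfsg.Agent.H67.Focal

open Subgroup
open scoped commutatorElement

variable {G : Type*} [Group G]

/-- `Z` acts quadratically on `X`. -/
def Quad (X Z : Subgroup G) : Prop := ⁅⁅X, Z⁆, Z⁆ = ⊥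

theorem quad_iff {X Z : Subgroup G} :
    Quad X Z ↔ ∀ x ∈ X, ∀ a ∈ Z, ⁅x, a⁆ ∈ centralizer (Z : Set G) := by
  rw [Quad, commutator_eq_bot_iff_le_centralizer, commutator_le]

/-- The elements on which `Z` acts quadratically form a subgroup of a normalised abelian group. -/
theorem quad_closure {U Z : Subgroup G} (hU : ∀ x ∈ U, ∀ y ∈ U, x * y = y * x)
    (hZ : Z ≤ normalizer (U : Set G)) {s : Set G} (hs : s ⊆ U)
    (h : ∀ x ∈ s, ∀ a ∈ Z, ⁅x, a⁆ ∈ centralizer (Z : Set G)) : Quad (closure s) Z := by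
  rw [quad_iff]
  intro x hx a ha
  have hcu : ∀ y ∈ U, ⁅y, a⁆ ∈ U := fun y hy => by
    have h1 := (mem_normalizer_iff.mp (hZ ha) y⁻¹).mp (inv_mem hy)
    have := mul_mem hy h1
    simpa [commutatorElement_def, mul_assoc] using this
  have hsU : closure s ≤ U := (closure_le U).mpr hs
  induction hx using Subgroup.closure_induction with
  | mem y hy => exact h y hy a ha
  | one => simp
  | mul y z hy hz h1 h2 =>
    have e : ⁅y * z, a⁆ = ⁅y, a⁆ * ⁅z, a⁆ := by
      have hc := hU _ (hsU hy) _ (hcu z (hsU hz))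
      calc ⁅y * z, a⁆ = y * ⁅z, a⁆ * y⁻¹ * ⁅y, a⁆ := by simp only [commutatorElement_def]; group
        _ = ⁅z, a⁆ * ⁅y, a⁆ := by rw [hc, mul_inv_cancel_right]
        _ = ⁅y, a⁆ * ⁅z, a⁆ := hU _ (hcu z (hsU hz)) _ (hcu y (hsU hy))
    rw [e]
    exact mul_mem h1 h2
  | inv y hy h1 =>
    have e : ⁅y⁻¹, a⁆ = ⁅y, a⁆⁻¹ := by
      have hc := hU _ (inv_mem (hsU hy)) _ (inv_mem (hcu y (hsU hy)))
      calc ⁅y⁻¹, a⁆ = y⁻¹ * ⁅y, a⁆⁻¹ * y := by simp only [commutatorElement_def]; group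
        _ = ⁅y, a⁆⁻¹ := by rw [hc, inv_mul_cancel_right]
    rw [e]
    exact inv_mem h1

/-- If `Z` is quadratic on every minimal `Y`-invariant subgroup of `U` and `L` normalises `Y` and
acts irreducibly on `U`, then `Z` is quadratic on `U`. -/
theorem quad_step [Finite G] {U L Y Z : Subgroup G} (hU : ∀ x ∈ U, ∀ y ∈ U, x * y = y * x)
    (hLU : L ≤ normalizer (U : Set G)) (hLY : L ≤ normalizer (Y : Set G))
    (hYU : Y ≤ normalizer (U : Set G)) (hZY : Z ≤ Y)
    (hmin : ∀ N : Subgroup G, N ≤ U → L ≤ normalizer (N : Set G) → N = ⊥ ∨ N = U)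
    (hq : ∀ X : Subgroup G, X ≤ U → X ≠ ⊥ → Y ≤ normalizer (X : Set G) →
      (∀ X' : Subgroup G, X' ≤ X → Y ≤ normalizer (X' : Set G) → X' = ⊥ ∨ X' = X) → Quad X Z) :
    Quad U Z := by
  by_cases hU0 : U = ⊥
  · subst hU0
    simp [Quad]
  obtain ⟨X, hXU, hXmin⟩ := Finite.exists_le_minimal
    (p := fun X : Subgroup G => X ≠ ⊥ ∧ Y ≤ normalizer (X : Set G) ∧ X ≤ U) (a := U) ⟨hU0, hYU, le_rfl⟩
  obtain ⟨hX0, hYX, -⟩ := hXmin.prop
  have hconj : ∀ g ∈ L, Quad (X.map (MulAut.conj g).toMonoidHom) Z := by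
    intro g hg
    have hY' : Y.map (MulAut.conj g).toMonoidHom = Y := by
      have := hLY hg
      rw [mem_normalizer_iff_map_conj_eq] at this
      exact this
    have hU' : U.map (MulAut.conj g).toMonoidHom = U := by
      have := hLU hg
      rw [mem_normalizer_iff_map_conj_eq] at this
      exact this
    have hinj : Function.Injective (MulAut.conj g).toMonoidHom := (MulAut.conj g).injective
    refine hq _ (hU'.le.trans' (Subgroup.map_mono hXU)) (fun e => hX0 ((map_eq_bot_iff_of_injective _ hinj).mp e))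
      ?_ fun X' hX' hYX' => ?_
    · rw [← hY']
      exact (Subgroup.map_mono hYX).trans (le_normalizer_map _)
    · set X'' := X'.comap (MulAut.conj g).toMonoidHom with hX''
      have hmap : X''.map (MulAut.conj g).toMonoidHom = X' :=
        map_comap_eq_self_of_surjective (MulAut.conj g).surjective _
      have hle : X'' ≤ X := by
        rw [← map_le_map_iff_of_injective hinj, hmap]
        exact hX'
      by_cases h0 : X'' = ⊥
      · left
        rw [← hmap, h0, Subgroup.map_bot]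
      · right
        rw [← hmap, le_antisymm hle (hXmin.le_of_le ⟨h0, ?_, hle.trans hXU⟩ hle)]
        rw [hX'', ← comap_normalizer_eq_of_surjective _ (MulAut.conj g).surjective, ← map_le_iff_le_comap, hY']
        exact hYX'
  set s : Set G := {x | ∃ g ∈ L, ∃ y ∈ X, x = g * y * g⁻¹} with hs
  have hsU : s ⊆ (U : Set G) := by
    rintro _ ⟨g, hg, y, hy, rfl⟩
    exact (mem_normalizer_iff.mp (hLU hg) y).mp (hXU hy)
  have hne : closure s ≠ ⊥ := by
    intro e
    obtain ⟨⟨y, hy⟩, hy1⟩ : ∃ y : X, y ≠ 1 := by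
      haveI := (nontrivial_iff_ne_bot X).mpr hX0
      exact exists_ne 1
    have : y ∈ closure s := subset_closure ⟨1, one_mem _, y, hy, by simp⟩
    rw [e, mem_bot] at this
    exact hy1 (Subtype.ext this)
  have hn : L ≤ normalizer ((closure s : Subgroup G) : Set G) := by
    intro g hg
    rw [mem_normalizer_iff_map_conj_eq]
    refine eq_of_le_of_card_ge ?_ (card_map_of_injective (MulAut.conj g).injective).ge
    rw [MonoidHom.map_closure, closure_le]
    rintro _ ⟨_, ⟨k, hk, y, hy, rfl⟩, rfl⟩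
    exact subset_closure ⟨g * k, mul_mem hg hk, y, hy, by simp [mul_assoc]⟩
  rw [← (hmin _ ((closure_le U).mpr hsU) hn).resolve_left hne]
  refine quad_closure hU (hZY.trans hYU) hsU ?_
  rintro _ ⟨g, hg, y, hy, rfl⟩ a ha
  exact quad_iff.mp (hconj g hg) _ ⟨y, hy, rfl⟩ a ha

/-- A natural module in a group: elements of `p`-power order are quadratic. -/
theorem quad_natural [Finite G] {p : ℕ} [Fact p.Prime] {F : Type*} [Field F] [Fintype F] [CharP F p]
    {V : Subgroup G} (hV : Cfsg.IsNaturalSL2Module F V ⊤) {a : G} {k : ℕ} (ha : a ^ p ^ k = 1) :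
    Quad V (zpowers a) := by
  obtain ⟨hn, ρ, ψ, -, -, hψ⟩ := hV
  have hVa : ∀ (g v : G), v ∈ V → g * v * g⁻¹ ∈ V := fun g v hv =>
    (mem_normalizer_iff.mp (hn (mem_top g)) v).mp hv
  have hact : ∀ (g : G) (v : V), ψ (Additive.ofMul ⟨g * v * g⁻¹, hVa g v v.2⟩) =
      ((ρ ⟨g, mem_top g⟩ : Matrix.SpecialLinearGroup (Fin 2) F) : Matrix (Fin 2) (Fin 2) F).mulVec
        (ψ (Additive.ofMul v)) := fun g v => by
    obtain ⟨w, hw, hw'⟩ := hψ ⟨g, mem_top g⟩ v
    rwa [show w = ⟨g * v * g⁻¹, hVa g v v.2⟩ from Subtype.ext hw] at hw'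
  rw [quad_iff]
  intro x hx b hb
  obtain ⟨n, rfl⟩ := (mem_powers_iff_mem_zpowers.mpr hb : b ∈ Submonoid.powers a)
  set A := ((ρ ⟨a, mem_top a⟩ : Matrix.SpecialLinearGroup (Fin 2) F) : Matrix (Fin 2) (Fin 2) F) with hA
  have hAn : ((ρ ⟨a ^ n, mem_top _⟩ : Matrix.SpecialLinearGroup (Fin 2) F) : Matrix (Fin 2) (Fin 2) F) = A ^ n := by
    rw [show (⟨a ^ n, mem_top _⟩ : (⊤ : Subgroup G)) = ⟨a, mem_top a⟩ ^ n from Subtype.ext rfl, map_pow,
      Matrix.SpecialLinearGroup.coe_pow]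
  have hsq : (A - 1) * (A - 1) = 0 := by
    refine pElement_sub_one_sq (p := p) (k := k) ?_
    rw [← map_pow, show (⟨a, mem_top a⟩ : (⊤ : Subgroup G)) ^ p ^ k = 1 from Subtype.ext ha, map_one]
  have hzero : (A - 1) * (A ^ n - 1) = 0 := by
    rw [← mul_geom_sum, ← mul_assoc, hsq, zero_mul]
  set c : V := ⟨⁅x, a ^ n⁆, by
    have := mul_mem hx (hVa (a ^ n) x⁻¹ (inv_mem hx))
    simpa [commutatorElement_def, mul_assoc] using this⟩ with hc
  have hψc : ψ (Additive.ofMul c) = - (A ^ n - 1).mulVec (ψ (Additive.ofMul ⟨x, hx⟩)) := by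
    have e : c = ⟨x, hx⟩ * (⟨a ^ n * x * (a ^ n)⁻¹, hVa _ _ hx⟩ : V)⁻¹ := by
      apply Subtype.ext
      simp [hc, commutatorElement_def, mul_assoc]
    rw [e, ofMul_mul, map_add, ofMul_inv, map_neg,
      show ψ (Additive.ofMul ⟨a ^ n * x * (a ^ n)⁻¹, hVa _ _ hx⟩) = _ from hact (a ^ n) ⟨x, hx⟩, hAn,
      Matrix.sub_mulVec, Matrix.one_mulVec]
    abel
  refine mem_centralizer_iff.mpr fun b hb => ?_
  have hcom : Commute a (c : G) := by
    have h1 : ψ (Additive.ofMul ⟨a * c * a⁻¹, hVa a c c.2⟩) = ψ (Additive.ofMul c) := by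
      rw [hact, ← hA, hψc, ← sub_eq_zero]
      have h2 := congrArg (fun M : Matrix (Fin 2) (Fin 2) F => M.mulVec (ψ (Additive.ofMul ⟨x, hx⟩))) hzero
      simp only [← Matrix.mulVec_mulVec, Matrix.sub_mulVec, Matrix.one_mulVec, Matrix.zero_mulVec,
        Matrix.mulVec_sub] at h2
      simp only [Matrix.mulVec_neg, Matrix.sub_mulVec, Matrix.one_mulVec, Matrix.mulVec_sub]
      linear_combination (norm := abel) (-1 : ℤ) • h2
    exact mul_inv_eq_iff_eq_mul.mp (congrArg Subtype.val (Additive.ofMul.injective (ψ.injective h1)))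
  obtain ⟨m, rfl⟩ := hb
  exact (hcom.zpow_left m).eq

end Cfsg.Agent.H67.Focal
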