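import Cfsg.Agent.H67.Focal.Blocks
import Mathlib.FieldTheory.Finite.Basic

/-!
Coordinates from a decomposition of the module into natural modules of pairwise orthogonal subgroups.
-/

set_option autoImplicit false
set_option linter.unusedSectionVars false
set_option linter.style.haveILetI false

namespace Cfsg.Agent.H67.Focal

open Subgroup Cfsg.Agent Matrix
open Cfsg.Agent.H31.PushUp (omegaZ Vm omegaZ_le omegaZ_comm mem_omegaZ map_omegaZ omegaZ_pow)
open scoped commutatorElement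

universe u

variable {G : Type u} [Group G] [Finite G] {p : ℕ} [Fact p.Prime]

/-- The decomposition supplied by the theorem on failure of factorization. -/
def FFShape (p : ℕ) (G : Type u) [Group G] : Prop :=
  ∃ (r : ℕ) (E : Fin r → Subgroup G),
    (⨆ i, E i) = LC p G ∧
    (Vm p G ⊓ centralizer ((⨆ i, E i : Subgroup G) : Set G)) ⊔ (⨆ i, ⁅Vm p G, E i⁆) = Vm p G ∧
    (∀ i j, i ≠ j → ⁅⁅Vm p G, E i⁆, E j⁆ = ⊥) ∧
    ∀ i, ∃ (n : ℕ) (F : Type) (_ : Field F) (_ : Fintype F), Fintype.card F = p ^ n ∧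
      Cfsg.ActsAsSL2OnSection F ⊤ (E i) ⁅Vm p G, E i⁆ (⁅Vm p G, E i⁆ ⊓ centralizer (E i : Set G))

theorem charP_of_card {F : Type} [Field F] [Fintype F] {n : ℕ} (h : Fintype.card F = p ^ n) :
    CharP F p := by
  obtain ⟨m, hm, hc⟩ := FiniteField.card F (ringChar F)
  have h1 : ringChar F ∣ p ^ n := h ▸ hc.symm ▸ dvd_pow_self _ m.2.ne'
  rw [← (Nat.prime_dvd_prime_iff_eq hm Fact.out).mp (hm.dvd_of_dvd_pow h1)]
  exact ringChar.charP F

set_option maxHeartbeats 1000000 in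
theorem exists_blocks (hp : p ≠ 2) (S : Sylow p G) (h : FFShape p G) : Nonempty (Blocks S) := by
  classical
  obtain ⟨r, E, hE, hdec, hcross, hnat⟩ := h
  set V := Vm p G with hV
  choose n F instF instFin hcard hn hle ρ0 ψ0 hρ0 hψ0s hψ0k hψ0e using hnat
  haveI : ∀ i, CharP (F i) p := fun i => charP_of_card (hcard i)
  have hVe : IsElementaryAbelian p V := H31.elem_omegaOne_center p _
  have hUV : ∀ i, ⁅V, E i⁆ ≤ V := fun i => commutator_le_left V _
  have hEL : ∀ i, E i ≤ LC p G := fun i => hE ▸ le_iSup E i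
  have h2 : ∀ i, (2 : F i) ≠ 0 := fun i => natCast_two_ne_zero (p := p) hp
  -- additive coordinates on one summand
  let φ : ∀ i, ↥⁅V, E i⁆ → Fin 2 → F i := fun i x => Multiplicative.toAdd (ψ0 i x)
  have φmul : ∀ i (x y : ↥⁅V, E i⁆), φ i (x * y) = φ i x + φ i y := fun i x y => by
    simp only [φ, map_mul, toAdd_mul]
  have φzero : ∀ i (x : ↥⁅V, E i⁆), φ i x = 0 ↔ (x : G) ∈ centralizer (E i : Set G) := fun i x => by
    rw [show φ i x = 0 ↔ ψ0 i x = 1 from toAdd_eq_zero, hψ0k i x, mem_inf, and_iff_right x.2]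
  have φconj : ∀ i (e : ↥(E i)) (x : ↥⁅V, E i⁆) (hm : (e : G) * x * (e : G)⁻¹ ∈ ⁅V, E i⁆),
      φ i ⟨_, hm⟩ = (ρ0 i e : Matrix (Fin 2) (Fin 2) (F i)).mulVec (φ i x) := fun i e x hm => by
    obtain ⟨w, hw, hw'⟩ := hψ0e i e x
    rw [show (⟨_, hm⟩ : ↥⁅V, E i⁆) = w from Subtype.ext hw.symm]
    exact hw'
  -- elements acting as minus one
  have hz : ∀ i, ∃ z : ↥(E i), ρ0 i z = -1 := fun i => by
    have : (-1 : Matrix.SpecialLinearGroup (Fin 2) (F i)) ∈ (ρ0 i).range := hρ0 i ▸ mem_top _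
    exact this
  choose z hz using hz
  have hδm : ∀ i, ∀ v ∈ V, (z i : G) * v * (z i : G)⁻¹ * v⁻¹ ∈ ⁅V, E i⁆ := fun i v hv => by
    have := inv_mem (commutator_mem_commutator hv (z i).2)
    simpa [commutatorElement_def, mul_assoc] using this
  let δ : ∀ i, ↥V → ↥⁅V, E i⁆ := fun i v => ⟨_, hδm i v v.2⟩
  have hδmul : ∀ i (v w : ↥V), δ i (v * w) = δ i v * δ i w := fun i v w => Subtype.ext (by
    simp only [δ, Subgroup.coe_mul]
    have hw' : (z i : G) * w * (z i : G)⁻¹ * (w : G)⁻¹ ∈ V := mul_mem (Blocks.conj_mem_Vm w.2) (inv_mem w.2)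
    calc (z i : G) * (v * w) * (z i : G)⁻¹ * ((v : G) * w)⁻¹
        = (z i : G) * v * (z i : G)⁻¹ * ((z i : G) * w * (z i : G)⁻¹ * (w : G)⁻¹) * (v : G)⁻¹ := by group
      _ = (z i : G) * v * (z i : G)⁻¹ * ((v : G)⁻¹ * ((z i : G) * w * (z i : G)⁻¹ * (w : G)⁻¹)) := by
          rw [mul_assoc _ _ (v : G)⁻¹, H31.elem_comm hVe hw' (inv_mem v.2)]
      _ = _ := by group)
  -- the coordinates
  let c : ∀ i, G → Fin 2 → F i := fun i v =>
    if hv : v ∈ V then (-(2 : F i)⁻¹) • φ i (δ i ⟨v, hv⟩) else 0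
  have cmul : ∀ i, ∀ v ∈ V, ∀ w ∈ V, c i (v * w) = c i v + c i w := fun i v hv w hw => by
    simp only [c, dif_pos hv, dif_pos hw, dif_pos (mul_mem hv hw)]
    rw [show (⟨v * w, mul_mem hv hw⟩ : ↥V) = ⟨v, hv⟩ * ⟨w, hw⟩ from rfl, hδmul, φmul, smul_add]
  have cone : ∀ i, c i 1 = 0 := fun i => by
    have := cmul i 1 (one_mem _) 1 (one_mem _)
    rw [mul_one] at this
    exact left_eq_add.mp this
  have hf : ∀ i, ∀ v ∈ V, (∀ g ∈ LC p G, g * v * g⁻¹ = v) → c i v = 0 := fun i v hv hfix => by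
    simp only [c, dif_pos hv]
    have : δ i ⟨v, hv⟩ = 1 := Subtype.ext (by
      simp only [δ, OneMemClass.coe_one]; rw [hfix _ (hEL i (z i).2), mul_inv_cancel])
    rw [this]
    have h1 : φ i (1 : ↥⁅V, E i⁆) = 0 := by simp [φ]
    rw [h1, smul_zero]
  have hoff : ∀ i j, i ≠ j → ∀ x ∈ ⁅V, E j⁆, ∀ e ∈ E i, e * x * e⁻¹ = x := fun i j hij x hx e he => by
    have := commutator_eq_bot_iff_le_centralizer.mp (hcross j i hij.symm) hx
    rw [mem_centralizer_iff.mp this e he, mul_inv_cancel_right]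
  have hdiag : ∀ i, ∀ x : ↥⁅V, E i⁆, c i x = φ i x := fun i x => by
    have hxV : (x : G) ∈ V := hUV i x.2
    simp only [c, dif_pos hxV]
    have hm : (z i : G) * x * (z i : G)⁻¹ ∈ ⁅V, E i⁆ := (mem_normalizer_iff.mp (hn i (z i).2) x).mp x.2
    have e : δ i ⟨x, hxV⟩ = ⟨_, hm⟩ * x⁻¹ := Subtype.ext rfl
    have hinv : φ i x⁻¹ = - φ i x := by simp only [φ, map_inv, toAdd_inv]
    rw [e, φmul, φconj i (z i) x hm, hz i, hinv, Matrix.SpecialLinearGroup.coe_neg,
      Matrix.SpecialLinearGroup.coe_one, Matrix.neg_mulVec, Matrix.one_mulVec]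
    funext k
    simp only [Pi.smul_apply, Pi.add_apply, Pi.neg_apply, smul_eq_mul]
    field_simp [h2 i]
    ring
  have hzero : ∀ i j, i ≠ j → ∀ x ∈ ⁅V, E j⁆, c i x = 0 := fun i j hij x hx => by
    have hxV : x ∈ V := hUV j hx
    simp only [c, dif_pos hxV]
    have : δ i ⟨x, hxV⟩ = 1 := Subtype.ext (by
      simp only [δ, OneMemClass.coe_one]; rw [hoff i j hij x hx _ (z i).2, mul_inv_cancel])
    rw [this, show φ i (1 : ↥⁅V, E i⁆) = 0 by simp [φ], smul_zero]
  -- induction on the module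
  have induct : ∀ P : G → Prop, (∀ v ∈ V, ∀ w ∈ V, P v → P w → P (v * w)) → P 1 →
      (∀ v ∈ V, (∀ g ∈ LC p G, g * v * g⁻¹ = v) → P v) → (∀ j, ∀ x ∈ ⁅V, E j⁆, P x) → ∀ v ∈ V, P v := by
    intro P hmul hone hfix hblk v hv
    set s : Set G := ((V ⊓ centralizer ((⨆ i, E i : Subgroup G) : Set G) : Subgroup G) : Set G) ∪
      ⋃ i, ((⁅V, E i⁆ : Subgroup G) : Set G) with hs
    have hVs : V = closure s := by
      rw [hs, Subgroup.closure_union, Subgroup.closure_eq, Subgroup.closure_iUnion]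
      simp only [Subgroup.closure_eq]
      exact hdec.symm
    have hsV : ∀ x ∈ s, x ∈ V ∧ P x ∧ P x⁻¹ := by
      rintro x (hx | hx)
      · have hfx : ∀ y ∈ V ⊓ centralizer ((⨆ i, E i : Subgroup G) : Set G), ∀ g ∈ LC p G, g * y * g⁻¹ = y :=
          fun y hy g hg => by rw [mem_centralizer_iff.mp hy.2 g (hE.ge hg), mul_inv_cancel_right]
        exact ⟨hx.1, hfix x hx.1 (hfx x hx), hfix _ (inv_mem hx.1) (hfx _ (inv_mem hx))⟩
      · obtain ⟨i, hi⟩ := Set.mem_iUnion.mp hx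
        exact ⟨hUV i hi, hblk i x hi, hblk i _ (inv_mem hi)⟩
    have key : ∀ x ∈ closure s, P x ∧ P x⁻¹ := fun x hx => by
      induction hx using Subgroup.closure_induction with
      | mem y hy => exact ⟨(hsV y hy).2.1, (hsV y hy).2.2⟩
      | one => exact ⟨hone, by rwa [inv_one]⟩
      | mul y w hy hw h1 h2 =>
        refine ⟨hmul y (hVs.ge hy) w (hVs.ge hw) h1.1 h2.1, ?_⟩
        rw [_root_.mul_inv_rev]
        exact hmul _ (inv_mem (hVs.ge hw)) _ (inv_mem (hVs.ge hy)) h2.2 h1.2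
      | inv y hy h1 => exact ⟨h1.2, by rw [inv_inv]; exact h1.1⟩
    exact (key v (hVs.le hv)).1
  -- coordinates are equivariant
  let Rel : G → (∀ i, Matrix.SpecialLinearGroup (Fin 2) (F i)) → Prop := fun g M =>
    ∀ v ∈ V, ∀ i, c i (g * v * g⁻¹) = (M i : Matrix (Fin 2) (Fin 2) (F i)).mulVec (c i v)
  have hgen : ∀ j (e : ↥(E j)), Rel e (Pi.mulSingle j (ρ0 j e)) := by
    intro j e
    refine induct _ (fun v hv w hw h1 h2 i => ?_) (fun i => by simp [cone]) (fun v hv hfix i => ?_)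
      (fun k x hx i => ?_)
    · rw [show (e : G) * (v * w) * (e : G)⁻¹ = (e : G) * v * (e : G)⁻¹ * ((e : G) * w * (e : G)⁻¹) by group,
        cmul i _ (Blocks.conj_mem_Vm hv) _ (Blocks.conj_mem_Vm hw), cmul i v hv w hw, h1 i, h2 i, Matrix.mulVec_add]
    · rw [hfix _ (hEL j e.2), hf i v hv hfix, Matrix.mulVec_zero]
    · rcases eq_or_ne k j with rfl | hkj
      · have hm : (e : G) * x * (e : G)⁻¹ ∈ ⁅V, E k⁆ := (mem_normalizer_iff.mp (hn k e.2) x).mp hx
        rcases eq_or_ne i k with rfl | hik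
        · rw [hdiag i ⟨_, hm⟩, hdiag i ⟨x, hx⟩, φconj i e ⟨x, hx⟩ hm, Pi.mulSingle_eq_same]
        · rw [hzero i k hik _ hm, hzero i k hik x hx, Matrix.mulVec_zero]
      · rw [hoff j k hkj.symm x hx e e.2]
        rcases eq_or_ne i j with rfl | hij
        · rw [hzero i k hkj.symm x hx, Matrix.mulVec_zero]
        · rw [Pi.mulSingle_eq_of_ne hij, Matrix.SpecialLinearGroup.coe_one, Matrix.one_mulVec]
  have hrel : ∀ g ∈ LC p G, ∃ M, Rel g M := by
    intro g hg
    rw [← hE, iSup_eq_closure] at hg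
    induction hg using Subgroup.closure_induction with
    | mem y hy =>
      obtain ⟨j, hj⟩ := Set.mem_iUnion.mp hy
      exact ⟨_, hgen j ⟨y, hj⟩⟩
    | one => exact ⟨1, fun v hv i => by simp⟩
    | mul y w _ _ h1 h2 =>
      obtain ⟨M, hM⟩ := h1
      obtain ⟨N, hN⟩ := h2
      refine ⟨M * N, fun v hv i => ?_⟩
      rw [show y * w * v * (y * w)⁻¹ = y * (w * v * w⁻¹) * y⁻¹ by group, hM _ (Blocks.conj_mem_Vm hv) i,
        hN v hv i, Pi.mul_apply, Matrix.SpecialLinearGroup.coe_mul, Matrix.mulVec_mulVec]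
    | inv y _ h1 =>
      obtain ⟨M, hM⟩ := h1
      refine ⟨M⁻¹, fun v hv i => ?_⟩
      have h := hM _ (Blocks.conj_mem_Vm (g := y⁻¹) hv) i
      rw [show y * (y⁻¹ * v * y⁻¹⁻¹) * y⁻¹ = v by group] at h
      rw [h, Matrix.mulVec_mulVec, Pi.inv_apply, ← Matrix.SpecialLinearGroup.coe_mul, inv_mul_cancel,
        Matrix.SpecialLinearGroup.coe_one, Matrix.one_mulVec]
  -- surjectivity
  have csurj : ∀ y : ∀ i, Fin 2 → F i, ∃ v ∈ V, ∀ i, c i v = y i := by
    have hfin : ∀ t : Finset (Fin r), ∀ y : ∀ i, Fin 2 → F i, (∀ i ∉ t, y i = 0) → ∃ v ∈ V, ∀ i, c i v = y i := by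
      intro t
      induction t using Finset.induction_on with
      | empty => exact fun y hy => ⟨1, one_mem _, fun i => by rw [cone, hy i (Finset.notMem_empty i)]⟩
      | insert a t ha ih =>
        intro y hy
        obtain ⟨v, hv, hvy⟩ := ih (Function.update y a 0) fun i hi => by
          rcases eq_or_ne i a with rfl | hia
          · rw [Function.update_self]
          · rw [Function.update_of_ne hia, hy i (by simp [hia, hi])]
        obtain ⟨x, hx⟩ := hψ0s a (Multiplicative.ofAdd (y a))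
        refine ⟨v * x, mul_mem hv (hUV a x.2), fun i => ?_⟩
        rw [cmul i v hv x (hUV a x.2), hvy]
        rcases eq_or_ne i a with rfl | hia
        · rw [Function.update_self, hdiag, zero_add]; simp [φ, hx]
        · rw [Function.update_of_ne hia, hzero i a hia x x.2, add_zero]
    exact fun y => hfin Finset.univ y fun i hi => absurd (Finset.mem_univ i) hi
  have huniq : ∀ g M N, Rel g M → Rel g N → M = N := by
    intro g M N hM hN
    funext i
    refine Subtype.ext (Matrix.ext fun j k => ?_)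
    obtain ⟨v, hv, hvy⟩ := csurj (Pi.single i (Pi.single k 1))
    have h1 := congrFun ((hM v hv i).symm.trans (hN v hv i)) j
    rw [hvy i, Pi.single_eq_same] at h1
    simpa [Matrix.mulVec_single] using h1
  choose M hM using hrel
  let ρ : ↥(LC p G) →* ∀ i, Matrix.SpecialLinearGroup (Fin 2) (F i) :=
    MonoidHom.mk' (fun g => M g g.2) fun g k => huniq _ _ _ (hM _ (g * k).2) (fun v hv i => by
      rw [show ((g * k : ↥(LC p G)) : G) * v * ((g * k : ↥(LC p G)) : G)⁻¹ =
        (g : G) * ((k : G) * v * (k : G)⁻¹) * (g : G)⁻¹ by push_cast; group,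
        hM _ g.2 _ (Blocks.conj_mem_Vm hv) i, hM _ k.2 v hv i, Pi.mul_apply,
        Matrix.SpecialLinearGroup.coe_mul, Matrix.mulVec_mulVec])
  have hρE : ∀ j (e : ↥(E j)), ρ ⟨e, hEL j e.2⟩ = Pi.mulSingle j (ρ0 j e) := fun j e =>
    huniq _ _ _ (hM _ _) (hgen j e)
  have hρs : Function.Surjective ρ := by
    rw [← MonoidHom.range_eq_top, eq_top_iff]
    refine fun y _ => Subgroup.pi_mem_of_mulSingle_mem y fun j => ?_
    obtain ⟨e, he⟩ : y j ∈ (ρ0 j).range := hρ0 j ▸ mem_top _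
    exact ⟨_, (hρE j e).trans (by rw [he])⟩
  -- the kernel of the coordinates is fixed
  have hfixed : ∀ v ∈ V, (∀ i, c i v = 0) → ∀ g ∈ LC p G, g * v * g⁻¹ = v := by
    haveI : (centralizer (LC p G : Set G)).Normal := Subgroup.normal_centralizer
    set F0 := V ⊓ centralizer (LC p G : Set G) with hF0
    have hmem : ∀ x, x ∈ F0 ↔ x ∈ V ∧ ∀ g ∈ LC p G, g * x * g⁻¹ = x := fun x => by
      simp only [hF0, mem_inf, mem_centralizer_iff, SetLike.mem_coe, mul_inv_eq_iff_eq_mul]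
    intro v hv hc
    -- each difference is fixed
    have hd : ∀ i, (δ i ⟨v, hv⟩ : G) ∈ F0 := by
      intro i
      have h1 := hc i
      simp only [c, dif_pos hv] at h1
      have h3 : φ i (δ i ⟨v, hv⟩) = 0 :=
        (smul_eq_zero.mp h1).resolve_left (neg_ne_zero.mpr (inv_ne_zero (h2 i)))
      refine ⟨hUV i (δ i ⟨v, hv⟩).2, mem_centralizer_iff.mpr fun g hg => ?_⟩
      rw [← hE, iSup_eq_closure] at hg
      have hle : closure (⋃ j, (E j : Set G)) ≤ centralizer ({(δ i ⟨v, hv⟩ : G)} : Set G) := by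
        rw [closure_le]
        intro y hy
        obtain ⟨j, hj⟩ := Set.mem_iUnion.mp hy
        refine mem_centralizer_iff.mpr fun w hw => ?_
        rw [Set.mem_singleton_iff.mp hw]
        rcases eq_or_ne j i with rfl | hji
        · exact (mem_centralizer_iff.mp ((φzero _ _).mp h3) y hj).symm
        · exact (mul_inv_eq_iff_eq_mul.mp (hoff j i hji _ (δ i ⟨v, hv⟩).2 y hj)).symm
      exact (mem_centralizer_iff.mp (hle hg) _ rfl).symm
    -- `v²` times the differences is fixed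
    haveI : (F0.subgroupOf V).Normal := ⟨fun x hx g => by
      have e : g * x * g⁻¹ = x := by
        apply Subtype.ext
        push_cast
        rw [H31.elem_comm hVe g.2 x.2, mul_inv_cancel_right]
      rwa [e]⟩
    let q := QuotientGroup.mk' (F0.subgroupOf V)
    have hqc : ∀ a b : ↥V ⧸ F0.subgroupOf V, Commute a b := by
      intro a b
      obtain ⟨a, rfl⟩ := QuotientGroup.mk'_surjective (F0.subgroupOf V) a
      obtain ⟨b, rfl⟩ := QuotientGroup.mk'_surjective (F0.subgroupOf V) b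
      exact (show Commute a b from Subtype.ext (H31.elem_comm hVe a.2 b.2)).map q
    letI : CommGroup (↥V ⧸ F0.subgroupOf V) :=
      { (inferInstance : Group (↥V ⧸ F0.subgroupOf V)) with mul_comm := fun a b => (hqc a b).eq }
    let dq : ↥V → Fin r → ↥V ⧸ F0.subgroupOf V := fun w i => q ⟨δ i w, hUV i (δ i w).2⟩
    have key : ∀ w (hw : w ∈ V), q ⟨w, hw⟩ * q ⟨w, hw⟩ * ∏ i, dq ⟨w, hw⟩ i = 1 := by
      have hP := induct (fun w => ∀ hw : w ∈ V, q ⟨w, hw⟩ * q ⟨w, hw⟩ * ∏ i, dq ⟨w, hw⟩ i = 1)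
        (fun a ha b hb h1 h2 hab => ?_) (fun h1 => ?_) (fun a ha hfix ha' => ?_) (fun j x hx hx' => ?_)
      · exact fun w hw => hP w hw hw
      · have e1 : (⟨a * b, hab⟩ : ↥V) = ⟨a, ha⟩ * ⟨b, hb⟩ := rfl
        have e2 : ∀ i, dq (⟨a, ha⟩ * ⟨b, hb⟩) i = dq ⟨a, ha⟩ i * dq ⟨b, hb⟩ i := fun i => by
          simp only [dq, hδmul, ← map_mul]
          rfl
        rw [e1, map_mul, Finset.prod_congr rfl (fun i _ => e2 i), Finset.prod_mul_distrib,
          mul_mul_mul_comm (q _), mul_mul_mul_comm (q _ * q _), h1 ha, h2 hb, mul_one]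
      · have e : ∀ i, dq ⟨1, h1⟩ i = 1 := fun i => by
          simp only [dq, δ, mul_one, mul_inv_cancel, inv_one]
          exact map_one q
        rw [show (⟨1, h1⟩ : ↥V) = 1 from rfl, map_one]
        rw [one_mul, one_mul]
        exact Finset.prod_eq_one fun i _ => e i
      · have e0 : q ⟨a, ha'⟩ = 1 := (QuotientGroup.eq_one_iff _).mpr ((hmem a).mpr ⟨ha', hfix⟩)
        have e : ∀ i, dq ⟨a, ha'⟩ i = 1 := fun i => by
          refine (QuotientGroup.eq_one_iff _).mpr ?_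
          show (δ i ⟨a, ha'⟩ : G) ∈ F0
          simp only [δ, hfix _ (hEL i (z i).2), mul_inv_cancel]
          exact one_mem _
        rw [e0, Finset.prod_congr rfl (fun i _ => e i)]
        simp
      · rw [Finset.prod_eq_single j (fun i _ hij => by
          refine (QuotientGroup.eq_one_iff _).mpr ?_
          show (δ i ⟨x, hx'⟩ : G) ∈ F0
          simp only [δ, hoff i j hij x hx _ (z i).2, mul_inv_cancel]
          exact one_mem _) (fun h => absurd (Finset.mem_univ j) h)]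
        simp only [dq, ← map_mul]
        refine (QuotientGroup.eq_one_iff _).mpr ?_
        show x * x * (δ j ⟨x, hx'⟩ : G) ∈ F0
        have hxx : x * x * (δ j ⟨x, hx'⟩ : G) ∈ ⁅V, E j⁆ := mul_mem (mul_mem hx hx) (δ j ⟨x, hx'⟩).2
        refine ⟨hUV j hxx, mem_centralizer_iff.mpr fun g hg => ?_⟩
        have h3 : φ j ⟨_, hxx⟩ = 0 := by
          have hd' := hdiag j ⟨x, hx⟩
          simp only [c, dif_pos (hUV j hx)] at hd'
          have e : (⟨_, hxx⟩ : ↥⁅V, E j⁆) = ⟨x, hx⟩ * ⟨x, hx⟩ * δ j ⟨x, hx'⟩ := rfl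
          rw [e, φmul, φmul]
          funext k
          have hk := congrFun hd' k
          simp only [Pi.smul_apply, smul_eq_mul] at hk
          simp only [Pi.add_apply, Pi.zero_apply]
          field_simp [h2 j] at hk
          linear_combination (-1 : F j) * hk
        rw [← hE, iSup_eq_closure] at hg
        have hle : closure (⋃ k, (E k : Set G)) ≤ centralizer ({x * x * (δ j ⟨x, hx'⟩ : G)} : Set G) := by
          rw [closure_le]
          intro y hy
          obtain ⟨k, hk⟩ := Set.mem_iUnion.mp hy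
          refine mem_centralizer_iff.mpr fun w hw => ?_
          rw [Set.mem_singleton_iff.mp hw]
          rcases eq_or_ne k j with rfl | hkj
          · exact (mem_centralizer_iff.mp ((φzero _ _).mp h3) y hk).symm
          · exact (mul_inv_eq_iff_eq_mul.mp (hoff k j hkj _ hxx y hk)).symm
        exact (mem_centralizer_iff.mp (hle hg) _ rfl).symm
    have h1 := key v hv
    rw [Finset.prod_eq_one (f := dq ⟨v, hv⟩) (fun i _ =>
      (QuotientGroup.eq_one_iff (N := F0.subgroupOf V) _).mpr (show (⟨(δ i ⟨v, hv⟩ : G), hUV i (δ i ⟨v, hv⟩).2⟩ : ↥V) ∈ F0.subgroupOf V from hd i)), mul_one, ← map_mul] at h1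
    have hv2 : v * v ∈ F0 := by
      rw [QuotientGroup.mk'_apply, QuotientGroup.eq_one_iff] at h1
      exact h1
    have hv' : v ∈ F0 := by
      obtain ⟨m, hm⟩ := (Fact.out : p.Prime).odd_of_ne_two hp
      have := pow_mem hv2 (m + 1)
      rwa [← sq, ← pow_mul, show 2 * (m + 1) = p + 1 by omega, pow_succ, hVe.2 v hv, one_mul] at this
    exact ((hmem v).mp hv').2
  -- normalise a Sylow subgroup
  have hconj : ∀ i, ∃ a : Matrix.SpecialLinearGroup (Fin 2) (F i), ∀ g : ↥(LC p G),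
      (g : G) ∈ (S : Subgroup G) → a * ρ g i * a⁻¹ ∈ Linear.unitriSL 2 (F i) := by
    intro i
    obtain ⟨a, ha⟩ := exists_conj_le_unitri (p := p)
      ((S.isPGroup'.comap_subtype (K := LC p G)).map ((Pi.evalMonoidHom _ i).comp ρ))
    exact ⟨a, fun g hg => ha _ ⟨g, hg, rfl⟩⟩
  choose a ha using hconj
  let conjHom : (∀ i, Matrix.SpecialLinearGroup (Fin 2) (F i)) →* ∀ i, Matrix.SpecialLinearGroup (Fin 2) (F i) :=
    (MulAut.conj (a : ∀ i, Matrix.SpecialLinearGroup (Fin 2) (F i))).toMonoidHom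
  have hinvl : ∀ i (x : Fin 2 → F i), ((a i)⁻¹ : Matrix.SpecialLinearGroup (Fin 2) (F i)).1.mulVec
      ((a i).1.mulVec x) = x := fun i x => by
    rw [Matrix.mulVec_mulVec, ← Matrix.SpecialLinearGroup.coe_mul, inv_mul_cancel,
      Matrix.SpecialLinearGroup.coe_one, Matrix.one_mulVec]
  refine ⟨{
    r := r
    F := F
    ρ := conjHom.comp ρ
    surj := (MulAut.conj (a : ∀ i, Matrix.SpecialLinearGroup (Fin 2) (F i))).surjective.comp hρs
    ψ := fun v i => (a i : Matrix (Fin 2) (Fin 2) (F i)).mulVec (c i v)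
    ψ_mul := fun v hv w hw => funext fun i => by rw [Pi.add_apply, cmul i v hv w hw, Matrix.mulVec_add]
    ψ_surj := fun y => by
      obtain ⟨v, hv, hvy⟩ := csurj fun i =>
        ((a i)⁻¹ : Matrix.SpecialLinearGroup (Fin 2) (F i)).1.mulVec (y i)
      refine ⟨v, hv, funext fun i => ?_⟩
      rw [hvy i, Matrix.mulVec_mulVec, ← Matrix.SpecialLinearGroup.coe_mul, mul_inv_cancel,
        Matrix.SpecialLinearGroup.coe_one, Matrix.one_mulVec]
    ψ_conj := fun g v hv i => by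
      show (a i : Matrix (Fin 2) (Fin 2) (F i)).mulVec (c i ((g : G) * v * (g : G)⁻¹)) =
        ((a i * ρ g i * (a i)⁻¹ : Matrix.SpecialLinearGroup (Fin 2) (F i)) : Matrix (Fin 2) (Fin 2) (F i)).mulVec
          ((a i : Matrix (Fin 2) (Fin 2) (F i)).mulVec (c i v))
      rw [hM _ g.2 v hv i, Matrix.SpecialLinearGroup.coe_mul, ← Matrix.mulVec_mulVec, hinvl,
        Matrix.SpecialLinearGroup.coe_mul, ← Matrix.mulVec_mulVec]
      rfl
    fixed := fun v hv h0 => hfixed v hv fun i => by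
      rw [← hinvl i (c i v), congrFun h0 i]
      simp
    sylow_upper := fun g hg i => ha i g hg }⟩

end Cfsg.Agent.H67.Focal
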