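import Cfsg.Agent.H67.Focal.RootGroups
import Cfsg.Agent.H67.Focal.Quadratic
import Cfsg.Agent.S2764

/-!
A rank one subgroup containing the Baumann subgroup, and an element which is quadratic on the chief
factors centralised by the centralizer of the module.
-/

set_option autoImplicit false
set_option linter.unusedSectionVars false
set_option linter.style.haveILetI false

namespace Cfsg.Agent.H67.Focal

open Subgroup Cfsg.Agent Matrix
open Cfsg.Agent.H31.PushUp (omegaZ Vm omegaZ_le omegaZ_comm mem_omegaZ map_omegaZ omegaZ_pow)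
open scoped commutatorElement

universe u

variable {G : Type u} [Group G] [Finite G] {p : ℕ} [Fact p.Prime]

namespace Blocks

variable {S : Sylow p G} (b : Blocks S)

/-- The preimage of the `i`-th factor. -/
def factor (i : Fin b.r) : Subgroup G :=
  ((Subgroup.pi {j | j ≠ i} fun _ => ⊥).comap b.ρ).map (LC p G).subtype

theorem mem_factor {i : Fin b.r} {g : ↥(LC p G)} :
    (g : G) ∈ b.factor i ↔ ∀ j, j ≠ i → b.ρ g j = 1 := by
  simp [factor, Subgroup.mem_pi, SetLike.coe_eq_coe]

theorem factor_le (i : Fin b.r) : b.factor i ≤ LC p G := map_subtype_le _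

theorem LC_le_normalizer_factor (i : Fin b.r) : LC p G ≤ normalizer (b.factor i : Set G) := by
  refine le_normalizer_iff.mpr fun l hl g hg => ?_
  have hgL := b.factor_le i hg
  have hg' : ∀ j, j ≠ i → b.ρ ⟨g, hgL⟩ j = 1 := b.mem_factor.mp hg
  refine (b.mem_factor (g := ⟨l, hl⟩ * ⟨g, hgL⟩ * ⟨l, hl⟩⁻¹)).mpr fun j hj => ?_
  rw [map_mul, map_mul, map_inv, Pi.mul_apply, Pi.mul_apply, Pi.inv_apply, hg' j hj, mul_one, mul_inv_cancel]

end Blocks

theorem mulSingle_unitri {r : ℕ} (F : Fin r → Type) [∀ i, Field (F i)] (i : Fin r)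
    {u : Matrix.SpecialLinearGroup (Fin 2) (F i)} (hu : u ∈ Linear.unitriSL 2 (F i)) (j : Fin r) :
    (Pi.mulSingle i u : ∀ j, Matrix.SpecialLinearGroup (Fin 2) (F j)) j ∈ Linear.unitriSL 2 (F j) := by
  rcases eq_or_ne j i with rfl | hj
  · rwa [Pi.mulSingle_eq_same]
  · rw [Pi.mulSingle_eq_of_ne hj]
    exact one_mem _

namespace Setup

variable {S : Sylow p G} (h : Setup p S) (b : Blocks S)

include h b

theorem centralizer_Qm_le : centralizer (Qm S : Set G) ≤ Qm S := by
  haveI := h.Qm_normal b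
  haveI : (centralizer (Qm S : Set G)).Normal := Subgroup.normal_centralizer
  have hWe := h.Wm_elem b
  have hWQ : Wm S ≤ Qm S := le_inf (sup_le (omegaZ_le _) (h.Zm_le_pCore b)) fun w hw =>
    mem_centralizer_iff.mpr fun w' hw' => H31.elem_comm hWe hw' hw
  set C := centralizer (Qm S : Set G) with hC
  have hCQ : Cfsg.pCore p G ⊓ C ≤ Qm S := fun x hx => ⟨hx.1, centralizer_le hWQ hx.2⟩
  have hco : ∀ c ∈ C, (orderOf c).Coprime p → c = 1 := by
    intro c hc hn
    have hQn : (Cfsg.pCore p G).Normal := normal_of_characteristic _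
    have hcQ : c ∈ centralizer (Cfsg.pCore p G : Set G) := by
      refine mem_centralizer_iff.mpr fun q hq => ?_
      set y := c * q * c⁻¹ * q⁻¹ with hy
      have hyQ : y ∈ Cfsg.pCore p G := mul_mem (hQn.conj_mem q hq c) (inv_mem hq)
      have hyC : y ∈ C := mem_centralizer_iff.mpr fun x hx => by
        have hqx : q * (q⁻¹ * x * q) * q⁻¹ = x := by group
        have h1 := mem_centralizer_iff.mp hc x hx
        have h2 : q⁻¹ * x * q ∈ (Qm S : Set G) := by
          simpa using (inferInstance : (Qm S).Normal).conj_mem x hx q⁻¹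
        have h3 := mem_centralizer_iff.mp hc _ h2
        have h3' : q⁻¹ * x * q * c⁻¹ = c⁻¹ * (q⁻¹ * x * q) := (Commute.inv_right (show Commute _ c from h3)).eq
        calc x * (c * q * c⁻¹ * q⁻¹) = (x * c) * q * c⁻¹ * q⁻¹ := by group
          _ = (c * x) * q * c⁻¹ * q⁻¹ := by rw [h1]
          _ = c * q * (q⁻¹ * x * q * c⁻¹) * q⁻¹ := by group
          _ = c * q * (c⁻¹ * (q⁻¹ * x * q)) * q⁻¹ := by rw [h3']
          _ = c * q * c⁻¹ * q⁻¹ * x := by group
      have hyc : c * y * c⁻¹ = y := by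
        rw [← mem_centralizer_iff.mp hc y (hCQ ⟨hyQ, hyC⟩), mul_inv_cancel_right]
      have hpow : ∀ m : ℕ, c ^ m * q * (c ^ m)⁻¹ = y ^ m * q := by
        intro m
        induction m with
        | zero => simp
        | succ m ih =>
          calc c ^ (m + 1) * q * (c ^ (m + 1))⁻¹ = c * (c ^ m * q * (c ^ m)⁻¹) * c⁻¹ := by
                rw [pow_succ']; group
            _ = c * (y ^ m * q) * c⁻¹ := by rw [ih]
            _ = c * y ^ m * c⁻¹ * (c * q * c⁻¹ * q⁻¹ * q) := by group
            _ = (c * y * c⁻¹) ^ m * (y * q) := by rw [conj_pow, hy]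
            _ = y ^ (m + 1) * q := by rw [hyc, pow_succ, ← mul_assoc]
      have h4 := hpow (orderOf c)
      rw [pow_orderOf_eq_one, one_mul, inv_one, mul_one] at h4
      obtain ⟨k, hk⟩ := Cores.pCore_isPGroup (p := p) (G := G) ⟨y, hyQ⟩
      have hk' : y ^ p ^ k = 1 := by simpa using congrArg Subtype.val hk
      have hy1 : y = 1 := orderOf_eq_one_iff.mp (Nat.eq_one_of_dvd_coprimes (hn.pow_right k)
        (orderOf_dvd_of_pow_eq_one (right_eq_mul.mp h4)) (orderOf_dvd_of_pow_eq_one hk'))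
      rw [hy, mul_inv_eq_one, mul_inv_eq_iff_eq_mul] at hy1
      exact hy1.symm
    obtain ⟨k, hk⟩ := Cores.pCore_isPGroup (p := p) (G := G) ⟨c, h.cent hcQ⟩
    have hk' : c ^ p ^ k = 1 := by simpa using congrArg Subtype.val hk
    exact orderOf_eq_one_iff.mp (Nat.eq_one_of_dvd_coprimes (hn.pow_right k) dvd_rfl
      (orderOf_dvd_of_pow_eq_one hk'))
  have hCp : IsPGroup p C := by
    intro c
    obtain ⟨a, m, hm, e⟩ := Nat.exists_eq_pow_mul_and_not_dvd (orderOf_pos (c : G)).ne' p
      (Fact.out : p.Prime).ne_one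
    refine ⟨a, Subtype.ext ?_⟩
    refine hco _ (pow_mem c.2 _) ?_
    rw [Subgroup.coe_pow, orderOf_pow_of_dvd (pow_ne_zero _ (Fact.out : p.Prime).ne_zero) (e ▸ dvd_mul_right _ _), e,
      Nat.mul_div_cancel_left _ (pow_pos (Fact.out : p.Prime).pos _)]
    exact ((Fact.out : p.Prime).coprime_iff_not_dvd.mpr hm).symm
  exact fun x hx => hCQ ⟨Cores.le_pCore hCp hx, hx⟩

theorem exists_rank_one : ∃ (i : Fin b.r) (G1 : Subgroup G), Bm S ≤ G1 ∧ G1 ≤ Bm S ⊔ (Lhat S ⊓ b.factor i) ∧
    ∀ (M : Subgroup G), M ≠ ⊤ → (∀ K : Subgroup G, K ≠ ⊤ → (S : Subgroup G) ≤ K → K ≤ M) →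
      ¬ G1 ≤ M ∧ ∀ K : Subgroup G, Bm S ≤ K → K < G1 → K ≤ M := by
  obtain ⟨M, hM, hover⟩ := h.exists_max
  -- some factor is not in the maximal subgroup
  obtain ⟨i, hi⟩ : ∃ i, ¬ Lhat S ⊓ b.factor i ≤ M := by
    by_contra hne
    push Not at hne
    have htop : (M.subgroupOf (LC p G)).map b.ρ = ⊤ := by
      refine eq_top_iff.mpr fun y _ => Subgroup.pi_mem_of_mulSingle_mem y fun i => ?_
      obtain ⟨g, hgL, hg⟩ := b.ρ_surj_Lm (Pi.mulSingle i (y i))
      refine ⟨g, hne i ⟨mem_sup_left hgL, b.mem_factor.mpr fun j hj => ?_⟩, hg⟩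
      rw [hg, Pi.mulSingle_eq_of_ne hj]
    have hCM : Cm p G ≤ M := le_sup_right.trans (hover _ h.sup_Cm_ne_top le_sup_left)
    have hLM : LC p G ≤ M := fun x hx => by
      obtain ⟨m, hm, hmx⟩ : b.ρ ⟨x, hx⟩ ∈ (M.subgroupOf (LC p G)).map b.ρ := htop.symm ▸ mem_top _
      have h1 : b.ρ (m⁻¹ * ⟨x, hx⟩) = 1 := by rw [map_mul, map_inv, hmx, inv_mul_cancel]
      have h2 := mul_mem (show (m : G) ∈ M from hm) (hCM (b.mem_Cm_of_ρ h h1))
      simpa using h2
    have hSM : (S : Subgroup G) ≤ M := le_sup_left.trans (hover _ h.sup_Cm_ne_top le_sup_left)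
    exact hM (top_le_iff.mp (h.sup_Lm.ge.trans (sup_le hSM (le_sup_left.trans hLM))))
  obtain ⟨G1, hG1, hmin⟩ := Finite.exists_le_minimal
    (p := fun X : Subgroup G => Bm S ≤ X ∧ ¬ X ≤ M) (a := Bm S ⊔ (Lhat S ⊓ b.factor i))
    ⟨le_sup_left, fun e => hi (le_sup_right.trans e)⟩
  refine ⟨i, G1, hmin.prop.1, hG1, fun M' hM' hover' => ?_⟩
  have hSM : (S : Subgroup G) ≤ M := le_sup_left.trans (hover _ h.sup_Cm_ne_top le_sup_left)
  have hSM' : (S : Subgroup G) ≤ M' := le_sup_left.trans (hover' _ h.sup_Cm_ne_top le_sup_left)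
  have e : M' = M := le_antisymm (hover _ hM' hSM') (hover' _ hM hSM)
  subst e
  refine ⟨hmin.prop.2, fun K hBK hK => ?_⟩
  by_contra hKM
  exact hK.not_ge (hmin.le_of_le ⟨hBK, hKM⟩ hK.le)

theorem exists_quadratic (hnc : NoChar S) : ∃ u : G, u ∈ (S : Subgroup G) ∧ u ∉ Cfsg.pCore p G ∧
    ∀ U V : Subgroup G, IsChiefFactor U V → U ≤ Cfsg.pCore p G → ⁅U, Cm p G⁆ ≤ V →
      ⁅⁅U, zpowers u⁆, zpowers u⁆ ≤ V := by
  classical
  obtain ⟨M, hM, hover⟩ := h.exists_max
  obtain ⟨i, G1, hBG, hG1le, hG1⟩ := h.exists_rank_one b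
  obtain ⟨hG1M, hG1min⟩ := hG1 M hM hover
  haveI hQmn := h.Qm_normal b
  have hCM : Cm p G ≤ M := le_sup_right.trans (hover _ h.sup_Cm_ne_top le_sup_left)
  have hBL : Bm S ≤ Lhat S := (h.Bm_eq b).le.trans inf_le_right
  have hG1L : G1 ≤ Lhat S := hG1le.trans (sup_le hBL inf_le_left)
  have hG1LC : G1 ≤ LC p G := hG1L.trans (h.Lhat_le_LC b)
  let incl : ↥G1 →* ↥(LC p G) := inclusion hG1LC
  -- the other coordinates
  have hother : ∀ j, j ≠ i → ∀ g : ↥G1, b.ρ (incl g) j ∈ Linear.unitriSL 2 (b.F j) := by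
    intro j hj g
    have hle : Bm S ⊔ (Lhat S ⊓ b.factor i) ≤
        (((Linear.unitriSL 2 (b.F j)).comap ((Pi.evalMonoidHom _ j).comp b.ρ))).map (LC p G).subtype := by
      refine sup_le (fun x hx => ?_) fun x hx => ?_
      · exact ⟨⟨x, h.Lhat_le_LC b (hBL hx)⟩, b.sylow_upper _ hx.1 j, rfl⟩
      · refine ⟨⟨x, b.factor_le i hx.2⟩, ?_, rfl⟩
        show b.ρ ⟨x, b.factor_le i hx.2⟩ j ∈ Linear.unitriSL 2 (b.F j)
        rw [(b.mem_factor (g := ⟨x, b.factor_le i hx.2⟩)).mp hx.2 j hj]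
        exact one_mem _
    obtain ⟨y, hy, hyg⟩ := hle (hG1le g.2)
    have e : y = incl g := Subtype.ext hyg
    rw [← e]; exact hy
  -- root elements in the rank one subgroup
  have hroot : ∀ u ∈ Linear.unitriSL 2 (b.F i), ∃ g : ↥G1, (g : G) ∈ Bm S ∧ (g : G) ∈ b.factor i ∧
      b.ρ (incl g) i = u := by
    intro u hu
    obtain ⟨g, hgB, hg⟩ := h.exists_root_Bm b (Pi.mulSingle i u) (mulSingle_unitri b.F i hu)
    refine ⟨⟨g, hBG hgB⟩, hgB, b.mem_factor.mpr fun j hj => by rw [hg, Pi.mulSingle_eq_of_ne hj], ?_⟩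
    have e : incl ⟨g, hBG hgB⟩ = g := Subtype.ext rfl
    rw [e, hg, Pi.mulSingle_eq_same]
  let ρi : ↥G1 →* Matrix.SpecialLinearGroup (Fin 2) (b.F i) :=
    ((Pi.evalMonoidHom _ i).comp b.ρ).comp incl
  have hsurj : Function.Surjective ρi := by
    rw [← MonoidHom.range_eq_top]
    by_contra hne
    have hU : Linear.unitriSL 2 (b.F i) ≤ ρi.range := fun u hu => by
      obtain ⟨g, -, -, hg⟩ := hroot u hu
      exact ⟨g, hg⟩
    refine hG1M fun g hg => hover (normalizer ((Bm S ⊔ Cm p G : Subgroup G) : Set G)) ?_ ?_ ?_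
    · intro e
      haveI := normalizer_eq_top_iff.mp e
      rcases h.normal_cases (Bm S ⊔ Cm p G) with h1 | h1
      · exact h.sup_Cm_ne_top (top_le_iff.mp (h1 ▸ sup_le le_sup_left
          (sup_le (inf_le_left.trans le_sup_left) le_sup_right)))
      · exact h.Jm_not_le_pCore ((le_inf (Jm_le S) ((Jm_le_Bm S).trans le_sup_left)).trans h1)
    · intro s hs
      refine H31.mem_normalizer_of_map_conj ?_
      rw [Subgroup.map_sup, H31.map_conj_eq_of_mem_normalizer (sylow_le_normalizer_Bm S hs),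
        H31.map_conj_eq_of_mem_normalizer (by rw [normalizer_eq_top_iff.mpr inferInstance]; trivial)]
    · refine H31.mem_normalizer_of_map_conj (eq_of_le_of_card_ge ?_
        (card_map_of_injective (MulAut.conj g).injective).ge)
      rw [Subgroup.map_sup, H31.map_conj_eq_of_mem_normalizer (g := g) (P := Cm p G)
        (by rw [normalizer_eq_top_iff.mpr inferInstance]; trivial)]
      refine sup_le ?_ le_sup_right
      rintro _ ⟨x, hx, rfl⟩
      set g' : ↥G1 := ⟨g, hg⟩
      set x' : ↥G1 := ⟨x, hBG hx⟩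
      have hU' : ∀ j, b.ρ (incl (g' * x' * g'⁻¹)) j ∈ Linear.unitriSL 2 (b.F j) := by
        intro j
        rcases eq_or_ne j i with rfl | hj
        · obtain ⟨n, hn⟩ := S.isPGroup' ⟨x, hx.1⟩
          have hx1 : (g' * x' * g'⁻¹) ^ p ^ n = 1 := by
            rw [conj_pow, show x' ^ p ^ n = 1 from Subtype.ext (by simpa [x'] using congrArg Subtype.val hn),
              mul_one, mul_inv_cancel]
          refine H31.PushUp.unitri_of_upper (p := p) (H31.PushUp.upper_of_ne_top hU hne ⟨g' * x' * g'⁻¹, rfl⟩)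
            (k := n) ?_
          rw [← Pi.pow_apply, ← map_pow, ← map_pow, hx1, map_one, map_one, Pi.one_apply]
        · exact hother j hj _
      obtain ⟨k, hkB, hk⟩ := h.exists_root_Bm b _ hU'
      have hC : ((k⁻¹ * incl (g' * x' * g'⁻¹) : ↥(LC p G)) : G) ∈ Cm p G :=
        b.mem_Cm_of_ρ h (by rw [map_mul, map_inv, hk, inv_mul_cancel])
      have := mul_mem (mem_sup_left hkB : (k : G) ∈ Bm S ⊔ Cm p G) (mem_sup_right hC)
      simpa [g', x', incl] using this
  -- the subgroup as a group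
  have hrel : ¬ p ∣ (Bm S).relIndex G1 := by
    intro hd
    haveI : (Lhat S).Normal := inferInstance
    refine H31.sylow_relIndex_not_dvd S (Lhat S) ?_
    rw [← inf_relIndex_right, ← h.Bm_eq b, ← relIndex_mul_relIndex (Bm S) G1 (Lhat S) hBG hG1L]
    exact hd.mul_right _
  have hBp : IsPGroup p (Bm S) := S.isPGroup'.to_le inf_le_left
  let S1 : Sylow p ↥G1 := (hBp.comap_subtype (K := G1)).toSylow hrel
  have hS1 : (S1 : Subgroup ↥G1).map G1.subtype = Bm S := map_subgroupOf_eq_of_le hBG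
  set Q1 : Subgroup ↥G1 := (Qm S).subgroupOf G1
  have hQG : Qm S ≤ G1 := (h.Qm_le_Bm b).trans hBG
  haveI : Q1.Normal := hQmn.subgroupOf G1
  have hQ1 : Q1 ≤ Cfsg.pCore p ↥G1 :=
    Cores.le_pCore ((hBp.to_le (h.Qm_le_Bm b)).comap_subtype)
  have hcent : centralizer (Cfsg.pCore p ↥G1 : Set ↥G1) ≤ Cfsg.pCore p ↥G1 := by
    intro c hc
    refine hQ1 ?_
    refine h.centralizer_Qm_le b (mem_centralizer_iff.mpr fun x hx => ?_)
    exact congrArg Subtype.val (mem_centralizer_iff.mp hc ⟨x, hQG hx⟩ (hQ1 hx))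
  have huniq : ∃! M1 : Subgroup ↥G1, IsCoatom M1 ∧ (S1 : Subgroup ↥G1) ≤ M1 := by
    have hBM : Bm S ≤ M :=
      inf_le_left.trans (le_sup_left.trans (hover _ h.sup_Cm_ne_top le_sup_left))
    have hM1 : M.subgroupOf G1 ≠ ⊤ := fun e => hG1M (subgroupOf_eq_top.mp e)
    have hall : ∀ N : Subgroup ↥G1, N ≠ ⊤ → (S1 : Subgroup ↥G1) ≤ N → N ≤ M.subgroupOf G1 := by
      intro N hN hSN
      rw [subgroupOf, ← map_le_iff_le_comap]
      refine hG1min _ (hS1.ge.trans (Subgroup.map_mono hSN))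
        (lt_of_le_of_ne (map_subtype_le N) fun e => hN ?_)
      rw [← subgroupOf_self G1, subgroupOf, ← comap_map_eq_self_of_injective G1.subtype_injective N]
      exact congrArg (Subgroup.comap G1.subtype) e
    have hS1M : (S1 : Subgroup ↥G1) ≤ M.subgroupOf G1 := fun x hx => hBM (hS1.le ⟨x, hx, rfl⟩)
    have hco : IsCoatom (M.subgroupOf G1) := ⟨hM1, fun N hN => by
      by_contra hne
      exact hN.not_ge (hall N hne (hS1M.trans hN.le))⟩
    refine ⟨M.subgroupOf G1, ⟨hco, hS1M⟩, fun N hN => ?_⟩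
    exact ((hN.1.le_iff.mp (hall N hN.1.1 hN.2)).resolve_left hM1).symm
  let π : ↥G1 →* Matrix.ProjectiveSpecialLinearGroup (Fin 2) (b.F i) :=
    (QuotientGroup.mk' (Subgroup.center (Matrix.SpecialLinearGroup (Fin 2) (b.F i)))).comp ρi
  have hπ : Function.Surjective π := (QuotientGroup.mk'_surjective _).comp hsurj
  have hd : ∀ T : Subgroup ↥(S1 : Subgroup ↥G1), T ≠ ⊥ → T.Characteristic →
      ¬ (T.map (S1 : Subgroup ↥G1).subtype).Normal := by
    intro T hT0 hTc hTn
    set f : ↥(S1 : Subgroup ↥G1) →* G := G1.subtype.comp (S1 : Subgroup ↥G1).subtype with hf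
    have hfinj : Function.Injective f := G1.subtype_injective.comp (S1 : Subgroup ↥G1).subtype_injective
    set X := T.map f with hX
    have hXeq : X = (T.map (S1 : Subgroup ↥G1).subtype).map G1.subtype := (Subgroup.map_map T _ _).symm
    have hX0 : X ≠ ⊥ := fun e => hT0 ((map_eq_bot_iff_of_injective _ hfinj).mp e)
    obtain ⟨T', hT'c, hT'⟩ := Bm_char S
    have hXB : X ≤ Bm S := by rw [hXeq, ← hS1]; exact Subgroup.map_mono (map_subtype_le T)
    refine hG1M ?_
    have hne : normalizer (X : Set G) ≠ ⊤ := by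
      refine hnc.normalizer_ne_top hX0 ?_
      -- `X` is characteristic in `S`
      have hT'i : T'.map (S : Subgroup G).subtype = (S1 : Subgroup ↥G1).map G1.subtype := by rw [hT', hS1]
      refine ⟨X.subgroupOf (S : Subgroup G), ?_, map_subgroupOf_eq_of_le (hXB.trans inf_le_left)⟩
      rw [characteristic_iff_map_le]
      intro φ
      rintro _ ⟨x, hx, rfl⟩
      have hxT : x ∈ T' := by
        obtain ⟨y, hy, hyx⟩ := hT'.ge (hXB hx)
        rwa [show x = y from Subtype.ext hyx.symm]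
      obtain ⟨t, ht, htx⟩ := hx
      -- the automorphism of the Baumann subgroup induced by `φ`
      let e : ↥(S1 : Subgroup ↥G1) ≃* ↥T' :=
        ((S1 : Subgroup ↥G1).equivMapOfInjective G1.subtype G1.subtype_injective).trans
          ((MulEquiv.subgroupCongr hT'i.symm).trans
            (T'.equivMapOfInjective (S : Subgroup G).subtype (S : Subgroup G).subtype_injective).symm)
      have he : ∀ a, (((e a : ↥T') : ↥(S : Subgroup G)) : G) = f a := by
        intro a
        have := congrArg Subtype.val ((T'.equivMapOfInjective (S : Subgroup G).subtype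
          (S : Subgroup G).subtype_injective).apply_symm_apply
          (MulEquiv.subgroupCongr hT'i.symm ((S1 : Subgroup ↥G1).equivMapOfInjective G1.subtype
            G1.subtype_injective a)))
        exact this
      let φ' : ↥T' ≃* ↥T' := (φ.subgroupMap T').trans (MulEquiv.subgroupCongr
        (characteristic_iff_map_eq.mp hT'c φ))
      let θ : ↥(S1 : Subgroup ↥G1) ≃* ↥(S1 : Subgroup ↥G1) := e.trans (φ'.trans e.symm)
      refine mem_subgroupOf.mpr ?_
      refine ⟨θ t, (characteristic_iff_map_le.mp hTc θ) ⟨t, ht, rfl⟩, ?_⟩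
      rw [← he]
      simp only [θ, MulEquiv.trans_apply, MulEquiv.apply_symm_apply]
      have et : ((e t : ↥T') : ↥(S : Subgroup G)) = x := Subtype.ext ((he t).trans htx)
      exact congrArg (fun w : ↥(S : Subgroup G) => ((φ w : ↥(S : Subgroup G)) : G)) et
    have hSX : (S : Subgroup G) ≤ normalizer (X : Set G) := by
      intro s hs
      refine H31.mem_normalizer_of_map_conj (eq_of_le_of_card_ge ?_
        (card_map_of_injective (MulAut.conj s).injective).ge)
      rintro _ ⟨x, ⟨t, ht, rfl⟩, rfl⟩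
      have hmapB : ∀ y ∈ Bm S, s * y * s⁻¹ ∈ Bm S := fun y hy =>
        (mem_normalizer_iff.mp (sylow_le_normalizer_Bm S hs) y).mp hy
      -- conjugation by `s` on the Sylow subgroup of the rank one subgroup
      have hmem : ∀ a : ↥(S1 : Subgroup ↥G1), f a ∈ Bm S := fun a => hS1.le ⟨a, a.2, rfl⟩
      let fwd : ↥(S1 : Subgroup ↥G1) → ↥(S1 : Subgroup ↥G1) := fun a =>
        ⟨⟨s * f a * s⁻¹, hBG (hmapB _ (hmem a))⟩, mem_subgroupOf.mpr (hmapB _ (hmem a))⟩
      have hfwd : ∀ a, f (fwd a) = s * f a * s⁻¹ := fun a => rfl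
      let θ : ↥(S1 : Subgroup ↥G1) →* ↥(S1 : Subgroup ↥G1) := MonoidHom.mk' fwd fun a c => hfinj (by
        rw [map_mul, hfwd, hfwd, hfwd, map_mul]; group)
      have hθ : Function.Bijective θ := by
        refine (Finite.injective_iff_bijective).mp fun a c hac => hfinj ?_
        have := congrArg f hac
        change f (fwd a) = f (fwd c) at this
        rw [hfwd, hfwd] at this
        exact mul_left_cancel (mul_right_cancel this)
      exact ⟨θ t, (characteristic_iff_map_le.mp hTc (MulEquiv.ofBijective θ hθ)) ⟨t, ht, rfl⟩, hfwd t⟩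
    refine le_trans ?_ (hover _ hne hSX)
    intro g hg
    refine H31.mem_normalizer_of_map_conj (eq_of_le_of_card_ge ?_
      (card_map_of_injective (MulAut.conj g).injective).ge)
    rw [hXeq]
    rintro _ ⟨_, ⟨y, hy, rfl⟩, rfl⟩
    exact ⟨⟨g, hg⟩ * y * ⟨g, hg⟩⁻¹, hTn.conj_mem y hy ⟨g, hg⟩, by simp⟩
  obtain ⟨n, -, hn⟩ := FiniteField.card (b.F i) p
  obtain ⟨-, hnat⟩ := Cfsg.Agent.S2764.result S1 hcent huniq π.ker (b.F i) n n.pos hn
    ⟨QuotientGroup.quotientKerEquivOfSurjective π hπ⟩ hd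
  -- the quadratic element
  obtain ⟨u, huB, huF, huρ⟩ := hroot _ (Linear.transvection_mem_unitriSL (F := b.F i) 1)
  refine ⟨u, huB.1, fun hQ => ?_, fun U V hch hUQ hUC => ?_⟩
  · have h1 := b.ρ_of_Cm (g := incl u) (h.pCore_le_Cm hQ)
    rw [h1, Pi.one_apply] at huρ
    have h2 := congrArg (fun g : Matrix.SpecialLinearGroup (Fin 2) (b.F i) =>
      (g : Matrix (Fin 2) (Fin 2) (b.F i)) 0 1) huρ
    simp [Matrix.SpecialLinearGroup.transvection_coe] at h2
  obtain ⟨hlt, hUn, hVn, hmin⟩ := hch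
  haveI := hUn
  haveI := hVn
  set q := QuotientGroup.mk' V with hq
  have hqs : Function.Surjective q := QuotientGroup.mk'_surjective V
  haveI : (U.map q).Normal := hUn.map q hqs
  haveI : (LC p G).Normal := inferInstance
  haveI : ((LC p G).map q).Normal := Subgroup.Normal.map inferInstance q hqs
  have hUcomm : ∀ x ∈ U.map q, ∀ y ∈ U.map q, x * y = y * x := by
    rintro _ ⟨x, hx, rfl⟩ _ ⟨y, hy, rfl⟩
    have h1 : ⁅x, y⁆ ∈ V := hUC (commutator_mem_commutator hx (h.pCore_le_Cm (hUQ hy)))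
    exact commutatorElement_eq_one_iff_mul_comm.mp (by
      rw [← map_commutatorElement]; exact (QuotientGroup.eq_one_iff _).mpr h1)
  set G2 : Subgroup G := G1 ⊓ b.factor i with hG2
  have huG2 : (u : G) ∈ G2 := ⟨u.2, huF⟩
  suffices hquad : Quad (U.map q) (zpowers (q u)) by
    rw [Quad, ← MonoidHom.map_zpowers, ← map_commutator, ← map_commutator, Subgroup.map_eq_bot_iff,
      QuotientGroup.ker_mk'] at hquad
    exact hquad
  have hG2le : G1 ≤ normalizer (G2 : Set G) := le_normalizer_iff.mpr fun g hg x hx =>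
    ⟨Subgroup.mul_mem _ (Subgroup.mul_mem _ hg hx.1) (Subgroup.inv_mem _ hg),
      (mem_normalizer_iff.mp (b.LC_le_normalizer_factor i (hG1LC hg)) x).mp hx.2⟩
  have hfac : b.factor i ≤ G2 ⊔ Cm p G := by
    set N : Subgroup (Matrix.SpecialLinearGroup (Fin 2) (b.F i)) := (G2.subgroupOf G1).map ρi with hN
    haveI : (G2.subgroupOf G1).Normal :=
      (normal_subgroupOf_iff_le_normalizer inf_le_left).mpr hG2le
    haveI : N.Normal := Subgroup.Normal.map inferInstance ρi hsurj
    have hNtop : N = ⊤ := eq_top_of_normal fun w hw => by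
      obtain ⟨g, -, hgF, hg⟩ := hroot w hw
      exact ⟨g, ⟨g.2, hgF⟩, hg⟩
    intro x hx
    obtain ⟨g, hg, hgx⟩ : b.ρ ⟨x, b.factor_le i hx⟩ i ∈ N := hNtop.symm ▸ mem_top _
    have hC : (((incl g)⁻¹ * ⟨x, b.factor_le i hx⟩ : ↥(LC p G)) : G) ∈ Cm p G := by
      refine b.mem_Cm_of_ρ h (funext fun j => ?_)
      rw [map_mul, map_inv, Pi.mul_apply, Pi.inv_apply, Pi.one_apply]
      rcases eq_or_ne j i with rfl | hj
      · rw [show b.ρ (incl g) j = _ from hgx, inv_mul_cancel]
      · rw [(b.mem_factor (g := incl g)).mp hg.2 j hj, (b.mem_factor (g := ⟨x, b.factor_le i hx⟩)).mp hx j hj,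
          inv_one, one_mul]
    have := mul_mem (mem_sup_left hg : (g : G) ∈ G2 ⊔ Cm p G) (mem_sup_right hC)
    simpa [incl] using this
  have hqu : q u ∈ (b.factor i).map q := ⟨u, huF, rfl⟩
  have hmin' : ∀ N : Subgroup (G ⧸ V), N ≤ U.map q → N.Normal → N = ⊥ ∨ N = U.map q := by
    intro N hN hNn
    rcases hmin (N.comap q) (hNn.comap q) (by
        intro v hv
        rw [mem_comap, hq, QuotientGroup.mk'_apply, (QuotientGroup.eq_one_iff v).mpr hv]
        exact one_mem N) ((comap_mono hN).trans (by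
        rw [comap_map_eq, QuotientGroup.ker_mk']; exact sup_le le_rfl hlt.le)) with e | e
    · left
      rw [← map_comap_eq_self_of_surjective hqs N, e, Subgroup.map_eq_bot_iff, QuotientGroup.ker_mk']
    · right
      rw [← map_comap_eq_self_of_surjective hqs N, e]
  refine quad_step (L := ⊤) (Y := (LC p G).map q) hUcomm (le_of_eq (normalizer_eq_top_iff.mpr inferInstance).symm)
    (le_of_eq (normalizer_eq_top_iff.mpr inferInstance).symm)
    (le_top.trans (le_of_eq (normalizer_eq_top_iff.mpr inferInstance).symm))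
    (zpowers_le.mpr (Subgroup.map_mono (b.factor_le i) hqu))
    (fun N hN hn => hmin' N hN (normalizer_eq_top_iff.mp (top_le_iff.mp hn))) fun W hWU hW0 hLW hWmin => ?_
  refine quad_step (L := (LC p G).map q) (Y := (b.factor i).map q) (fun x hx y hy => hUcomm x (hWU hx) y (hWU hy))
    hLW ((Subgroup.map_mono (b.LC_le_normalizer_factor i)).trans (le_normalizer_map q))
    ((Subgroup.map_mono (b.factor_le i)).trans hLW) (zpowers_le.mpr hqu) hWmin fun X hXW hX0 hYX hXmin => ?_
  -- reduce to a chief series of the rank one subgroup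
  set X' := X.comap q ⊓ U with hX'
  have hXU : X ≤ U.map q := hXW.trans hWU
  have hX'map : X'.map q = X := by
    refine le_antisymm ((Subgroup.map_mono inf_le_left).trans (map_comap_le _ _)) fun x hx => ?_
    obtain ⟨y, hy, rfl⟩ := hXU hx
    exact ⟨y, ⟨hx, hy⟩, rfl⟩
  have hG2X : G2 ≤ normalizer (X' : Set G) := by
    refine le_normalizer_iff.mpr fun g hg x hx => ⟨?_, hUn.conj_mem x hx.2 g⟩
    have h1 : q x ∈ X := hx.1
    have := (mem_normalizer_iff.mp (hYX ⟨g, hg.2, rfl⟩) (q x)).mp h1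
    simpa using this
  -- a subgroup of `X'` invariant under the small group is trivial or everything
  have hdich : ∀ Z : Subgroup G, Z ≤ X' → G2 ≤ normalizer (Z : Set G) → Z.map q = ⊥ ∨ Z.map q = X := by
    intro Z hZX hZn
    refine hXmin _ (hX'map ▸ Subgroup.map_mono hZX) ?_
    refine le_trans ?_ (le_refl (normalizer ((Z.map q : Subgroup (G ⧸ V)) : Set (G ⧸ V))))
    refine (Subgroup.map_mono hfac).trans ?_
    rw [Subgroup.map_sup]
    refine sup_le ((Subgroup.map_mono hZn).trans (le_normalizer_map q)) ?_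
    rintro _ ⟨c, hc, rfl⟩
    refine (mem_normalizer_iff.mpr fun y => ?_)
    have hcen : ∀ y ∈ U.map q, q c * y * (q c)⁻¹ = y := by
      rintro _ ⟨y, hy, rfl⟩
      have h1 : ⁅y, c⁆ ∈ V := hUC (commutator_mem_commutator hy hc)
      have h2 : q y * q c = q c * q y := commutatorElement_eq_one_iff_mul_comm.mp (by
        rw [← map_commutatorElement]; exact (QuotientGroup.eq_one_iff _).mpr h1)
      rw [← h2, mul_inv_cancel_right]
    have hZU : Z.map q ≤ U.map q := Subgroup.map_mono (hZX.trans inf_le_right)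
    constructor
    · intro hy; rwa [hcen y (hZU hy)]
    · intro hy
      have h1 := hcen _ (hZU hy)
      have h2 : q c * y * (q c)⁻¹ = y := mul_left_cancel (mul_right_cancel h1)
      rwa [h2] at hy
  have hkey : ∀ (N : Subgroup ↥G1), N.Normal → N ≤ Cfsg.pCore p ↥G1 →
      (X' ⊓ N.map G1.subtype).map q = X → Quad X (zpowers (q u)) := by
    intro N
    induction N using WellFoundedLT.induction with
    | _ N ih =>
      intro hNn hNQ hNX
      haveI := hNn
      by_cases hN0 : N = ⊥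
      · exfalso
        refine hX0 ?_
        rw [← hNX, hN0, Subgroup.map_bot, inf_bot_eq, Subgroup.map_bot]
      obtain ⟨W', ⟨hW'n, hW'lt⟩, hW'max⟩ := (Set.toFinite {K : Subgroup ↥G1 | K.Normal ∧ K < N}).exists_maximal
        ⟨⊥, inferInstance, bot_lt_iff_ne_bot.mpr hN0⟩
      haveI := hW'n
      have hcf : IsChiefFactor N W' := ⟨hW'lt, hNn, hW'n, fun K hK h1 h2 => by
        rcases lt_or_eq_of_le h2 with h3 | h3
        · exact Or.inl (le_antisymm (hW'max ⟨hK, h3⟩ h1) h1)
        · exact Or.inr h3⟩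
      have hWn : G2 ≤ normalizer ((X' ⊓ W'.map G1.subtype : Subgroup G) : Set G) := by
        refine le_normalizer_iff.mpr fun g hg x hx => ⟨(mem_normalizer_iff.mp (hG2X hg) x).mp hx.1, ?_⟩
        obtain ⟨y, hy, rfl⟩ := hx.2
        exact ⟨⟨g, hg.1⟩ * y * ⟨g, hg.1⟩⁻¹, hW'n.conj_mem y hy _, by simp⟩
      rcases hdich _ inf_le_left hWn with e | e
      swap
      · exact ih W' hW'lt hW'n (hW'lt.le.trans hNQ) e
      have hNW : ⁅⁅N, zpowers u⁆, zpowers u⁆ ≤ W' := by
        by_cases hc : ⁅N, (⊤ : Subgroup ↥G1)⁆ ≤ W'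
        · refine le_trans (commutator_mono (le_trans (commutator_mono le_rfl le_top) hc) le_rfl) ?_
          exact commutator_le_left W' _
        · have hN := hnat N W' hNQ hcf hc
          obtain ⟨k, hk⟩ := (S.isPGroup' : IsPGroup p (S : Subgroup G)) ⟨u, huB.1⟩
          have hk' : (QuotientGroup.mk' W' u) ^ p ^ k = 1 := by
            rw [← map_pow, show u ^ p ^ k = 1 from Subtype.ext (by simpa using congrArg Subtype.val hk), map_one]
          have := quad_natural hN hk'
          rw [Quad, ← MonoidHom.map_zpowers, ← map_commutator, ← map_commutator, Subgroup.map_eq_bot_iff,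
            QuotientGroup.ker_mk'] at this
          exact this
      have hle : ⁅⁅X' ⊓ N.map G1.subtype, zpowers (u : G)⁆, zpowers (u : G)⁆ ≤ X' ⊓ W'.map G1.subtype := by
        refine le_inf ?_ ?_
        · have h1 : zpowers (u : G) ≤ normalizer (X' : Set G) := (zpowers_le.mpr huG2).trans hG2X
          have h2 : ⁅X', zpowers (u : G)⁆ ≤ X' := le_normalizer_iff_commutator_le_left.mp h1
          exact (commutator_mono ((commutator_mono inf_le_left le_rfl).trans h2) le_rfl).trans h2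
        · have := Subgroup.map_mono (f := G1.subtype) hNW
          rw [map_commutator, map_commutator, MonoidHom.map_zpowers] at this
          exact (commutator_mono (commutator_mono inf_le_right le_rfl) le_rfl).trans this
      have := Subgroup.map_mono (f := q) hle
      rw [map_commutator, map_commutator, MonoidHom.map_zpowers, hNX, e] at this
      exact le_bot_iff.mp this
  haveI : (Cfsg.pCore p ↥G1).Normal := normal_of_characteristic _
  rcases hdich (X' ⊓ Qm S) inf_le_left (le_normalizer_iff.mpr fun g hg x hx =>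
    ⟨(mem_normalizer_iff.mp (hG2X hg) x).mp hx.1, hQmn.conj_mem x hx.2 g⟩) with e | e
  · -- the top layer is central
    have h1 : ⁅X', zpowers (u : G)⁆ ≤ X' ⊓ Qm S := by
      refine le_inf (le_normalizer_iff_commutator_le_left.mp ((zpowers_le.mpr huG2).trans hG2X)) ?_
      rw [← h.pCore_inf_Lhat b]
      haveI : (Cfsg.pCore p G).Normal := normal_of_characteristic _
      exact (commutator_mono (inf_le_right.trans hUQ) (zpowers_le.mpr (hG1L u.2))).trans
        (commutator_le_inf _ _)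
    have h2 := Subgroup.map_mono (f := q) h1
    rw [map_commutator, MonoidHom.map_zpowers, hX'map, e] at h2
    rw [Quad, le_bot_iff.mp h2, commutator_bot_left]
  · refine hkey (Cfsg.pCore p ↥G1) inferInstance le_rfl (le_antisymm ((Subgroup.map_mono inf_le_left).trans hX'map.le) ?_)
    rw [← e]
    exact Subgroup.map_mono (le_inf inf_le_left (inf_le_right.trans fun x hx => ⟨⟨x, hQG hx⟩, hQ1 hx, rfl⟩))

end Setup

end Cfsg.Agent.H67.Focal
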