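import Cfsg.Agent.H67.Focal.EngelTop
import Cfsg.Agent.H67.Focal.Local
import Cfsg.Agent.H67.Focal.Coords
import Cfsg.Agent.H49.KTransfer

/-!
For odd `p` the nontrivial characteristic subgroups of a Sylow `p`-subgroup control transfer, given the
structure theorem on failure of factorization in the constrained minimal counterexamples.
-/

set_option autoImplicit false
set_option linter.unusedSectionVars false
set_option linter.style.haveILetI false

namespace Cfsg.Agent.H67.Focal

open Subgroup Cfsg.Agent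
open scoped commutatorElement

universe u

variable {p : ℕ} [Fact p.Prime]

/-- All isomorphism-invariant functors. -/
def allFunctors (p : ℕ) : Set (∀ (Q : Type u) [Group Q], Subgroup Q) :=
  {W | IsCharPFunctor.{u} p W}

/-- Every nontrivial characteristic subgroup is the value of a functor. -/
theorem exists_functor {P : Type u} [Group P] (X : Subgroup P) [X.Characteristic] (hX : X ≠ ⊥) :
    ∃ W ∈ allFunctors.{u} p, W P = X := by
  classical
  let W : ∀ (Q : Type u) [Group Q], Subgroup Q := fun Q _ =>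
    if h : Nonempty (P ≃* Q) then X.map (Classical.choice h).toMonoidHom else ⊤
  have key : ∀ {Q : Type u} [Group Q] (e : P ≃* Q), W Q = X.map e.toMonoidHom := by
    intro Q _ e
    simp only [W, dif_pos (Nonempty.intro e)]
    set e' := Classical.choice (Nonempty.intro e)
    have h1 := characteristic_iff_map_eq.mp (inferInstance : X.Characteristic) (e'.trans e.symm)
    conv_rhs => rw [← h1, Subgroup.map_map]
    congr 1
    ext x
    simp
  refine ⟨W, ⟨fun Q _ _ _ hQ => ?_, fun Q R _ _ _ _ φ => ?_⟩, ?_⟩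
  · by_cases h : Nonempty (P ≃* Q)
    · obtain ⟨e⟩ := h
      rw [key e]
      exact fun hb => hX ((map_eq_bot_iff_of_injective _ e.injective).mp hb)
    · simp only [W, dif_neg h]
      exact top_ne_bot
  · by_cases h : Nonempty (P ≃* Q)
    · obtain ⟨e⟩ := h
      rw [key e, key (e.trans φ), Subgroup.map_map]
      rfl
    · have h' : ¬ Nonempty (P ≃* R) := fun ⟨e⟩ => h ⟨e.trans φ.symm⟩
      simp only [W, dif_neg h, dif_neg h']
      exact map_top_of_surjective _ φ.surjective
  · rw [key (MulEquiv.refl P)]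
    exact Subgroup.map_id X

variable {G : Type u} [Group G] [Finite G] {S : Sylow p G}

theorem setup_of_minimalFailure (hp : p ≠ 2) (h : Fusion.MinimalFailure (allFunctors.{u} p) S) :
    Setup p S ∧ NoChar S := by
  have hSne : (S : Subgroup G) ≠ ⊥ := fun hb => h.fails (by rw [hb, inf_bot_eq]; exact bot_le)
  have hne : (allFunctors.{u} p).Nonempty := by
    haveI : Nontrivial ↥(S : Subgroup G) := (nontrivial_iff_ne_bot _).mpr hSne
    obtain ⟨W, hW, -⟩ := exists_functor (p := p) (⊤ : Subgroup ↥(S : Subgroup G)) top_ne_bot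
    exact ⟨W, hW⟩
  have hS := h.ne_pCore hne
  have hnc : NoChar S := fun T hT hTc hn => by
    haveI := hTc
    obtain ⟨W, hW, hWT⟩ := exists_functor (p := p) T hT
    refine h.not_normal hW ?_
    show ((W ↥(S : Subgroup G)).map (S : Subgroup G).subtype).Normal
    rw [hWT]
    exact hn
  refine ⟨⟨hp, h.centralizer_le, hS, ?_, ?_, ?_, ?_⟩, hnc⟩
  · exact hnc.normalizer_ne_top (omegaZ_ne_bot S hSne) ⟨omegaOne p (center ↥(S : Subgroup G)),
      H31.PushUp.characteristic_omegaZ _, H31.omegaOne_center_map_subtype p _⟩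
  · exact hnc.normalizer_ne_top (Jm_nontrivial S hSne) ⟨thompsonSubgroup p ↥(S : Subgroup G),
      H31.PushUp.characteristic_thompson _, rfl⟩
  · exact hnc.normalizer_ne_top (fun hb => Jm_nontrivial S hSne (le_bot_iff.mp (hb ▸ Jm_le_Bm S)))
      (Bm_char S)
  · exact ⟨_, h.M_ne_top hS, fun K hK hSK => h.le_M hS hK hSK⟩

theorem not_minimalFailure (hp : p ≠ 2)
    (hFF : ∀ {H : Type u} [Group H] [Finite H] (T : Sylow p H), Setup p T → FFShape p H)
    (h : Fusion.MinimalFailure (allFunctors.{u} p) S) : False := by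
  obtain ⟨hs, hnc⟩ := setup_of_minimalFailure hp h
  obtain ⟨b⟩ := exists_blocks hp S (hFF S hs)
  obtain ⟨u, huS, huQ, hq⟩ := hs.exists_quadratic b hnc
  obtain ⟨U, V, hch, hU, htop, hne⟩ := engel_top h hs.ne huS huQ
  refine hne ?_
  have hC : ⁅U, Cm p G⁆ ≤ V := htop _ inferInstance
    (fun e => hs.sup_Cm_ne_top (by rw [e, sup_top_eq])) hs.sup_Cm_ne_top
  haveI := hch.2.1
  have h2 : 2 ≤ p - 1 := by
    have := (Fact.out : p.Prime).two_le
    omega
  exact (H49.iter_antitone U _ h2).trans (hq U V hch hU hC)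

theorem ctl_all (hp : p ≠ 2)
    (hFF : ∀ {H : Type u} [Group H] [Finite H] (T : Sylow p H), Setup p T → FFShape p H) :
    Fusion.Ctl (allFunctors.{u} p) p G := by
  haveI : ((⊥ : Subgroup G).subgroupOf ⊤).Normal := by rw [bot_subgroupOf]; infer_instance
  refine Fusion.Ctl.congr ?_ (fun W hW => hW) (Fusion.ctl_sections (G := G) (fun W hW => hW) ?_ ?_ ⊤ ⊥)
  · exact ((QuotientGroup.quotientMulEquivOfEq (bot_subgroupOf ⊤)).trans QuotientGroup.quotientBot).trans
      Subgroup.topEquiv
  · intro K R _ hKR T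
    by_cases hT : (T : Subgroup (↥K ⧸ R.subgroupOf K)) = ⊥
    · rw [hT, inf_bot_eq]
      exact bot_le
    · haveI : Nontrivial ↥(T : Subgroup (↥K ⧸ R.subgroupOf K)) := (nontrivial_iff_ne_bot _).mpr hT
      obtain ⟨W, hW, -⟩ := exists_functor (p := p) (⊤ : Subgroup ↥(T : Subgroup (↥K ⧸ R.subgroupOf K))) top_ne_bot
      exact Fusion.ctl_of_isPGroup (fun W hW => hW) ⟨W, hW⟩ hKR T
  · intro K R _ T hf
    exact not_minimalFailure hp hFF hf

theorem focal_eq (hp : p ≠ 2)
    (hFF : ∀ {H : Type u} [Group H] [Finite H] (T : Sylow p H), Setup p T → FFShape p H)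
    (S : Sylow p G) (hS : (S : Subgroup G) ≠ ⊥) :
    (S : Subgroup G) ⊓ commutator G =
      ⨆ K : {K : Subgroup ↥(S : Subgroup G) // K ≠ ⊥ ∧ K.Characteristic}, (S : Subgroup G) ⊓
        ⁅normalizer ((((K : Subgroup ↥(S : Subgroup G))).map (S : Subgroup G).subtype : Subgroup G) : Set G),
          normalizer ((((K : Subgroup ↥(S : Subgroup G))).map (S : Subgroup G).subtype : Subgroup G) : Set G)⁆ := by
  refine le_antisymm ?_ (iSup_le fun K => le_inf inf_le_left (inf_le_right.trans (commutator_mono le_top le_top)))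
  rw [inf_comm]
  refine (ctl_all hp hFF S).trans (iSup₂_le fun W hW => ?_)
  have hne : W ↥(S : Subgroup G) ≠ ⊥ := hW.1 _ S.isPGroup' ((nontrivial_iff_ne_bot _).mpr hS)
  have hc : (W ↥(S : Subgroup G)).Characteristic :=
    characteristic_iff_map_eq.mpr fun φ => hW.2 _ _ S.isPGroup' φ
  exact le_iSup (fun K : {K : Subgroup ↥(S : Subgroup G) // K ≠ ⊥ ∧ K.Characteristic} => (S : Subgroup G) ⊓
    ⁅normalizer ((((K : Subgroup ↥(S : Subgroup G))).map (S : Subgroup G).subtype : Subgroup G) : Set G),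
      normalizer ((((K : Subgroup ↥(S : Subgroup G))).map (S : Subgroup G).subtype : Subgroup G) : Set G)⁆)
    ⟨W ↥(S : Subgroup G), hne, hc⟩

end Cfsg.Agent.H67.Focal
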