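import Cfsg.Agent.H31.JSub
import Cfsg.Agent.H31.PushUp.Setup
import Cfsg.Prelude.Def_BaumannBlocks
import Cfsg.Agent.Cores.PCore

/-!
A constrained group with a single maximal subgroup over a Sylow `p`-subgroup and no nontrivial
characteristic subgroup of that Sylow subgroup normal.
-/

set_option autoImplicit false
set_option linter.unusedSectionVars false
set_option linter.style.haveILetI false

namespace Cfsg.Agent.H67.Focal

open Subgroup Cfsg.Agent
open Cfsg.Agent.H31.PushUp (omegaZ Vm omegaZ_le omegaZ_comm mem_omegaZ map_omegaZ)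
open scoped commutatorElement

universe u

variable {G : Type u} [Group G] [Finite G] {p : ℕ} [Fact p.Prime]

/-- No nontrivial characteristic subgroup of the Sylow subgroup is normal. -/
def NoChar {G : Type u} [Group G] (S : Sylow p G) : Prop :=
  ∀ T : Subgroup ↥(S : Subgroup G), T ≠ ⊥ → T.Characteristic →
    ¬ (T.map (S : Subgroup G).subtype).Normal

/-- The hypotheses. -/
structure Setup (p : ℕ) {G : Type u} [Group G] (S : Sylow p G) : Prop where
  odd : p ≠ 2
  cent : centralizer (Cfsg.pCore p G : Set G) ≤ Cfsg.pCore p G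
  ne : (S : Subgroup G) ≠ Cfsg.pCore p G
  omega_nn : normalizer (omegaZ p (S : Subgroup G) : Set G) ≠ ⊤
  jm_nn : normalizer (thompsonSubgroupOf p (S : Subgroup G) : Set G) ≠ ⊤
  bm_nn : normalizer (((S : Subgroup G) ⊓ centralizer
    ((omegaZ p (thompsonSubgroupOf p (S : Subgroup G)) : Subgroup G) : Set G) : Subgroup G) : Set G) ≠ ⊤
  exists_max : ∃ M : Subgroup G, M ≠ ⊤ ∧ ∀ K : Subgroup G, K ≠ ⊤ → (S : Subgroup G) ≤ K → K ≤ M

/-- The centralizer of the module. -/
abbrev Cm (p : ℕ) (G : Type u) [Group G] : Subgroup G := centralizer (Vm p G : Set G)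

/-- The normal subgroup generated by the largest elementary abelian subgroups. -/
abbrev Lm (p : ℕ) (G : Type u) [Group G] : Subgroup G := thompsonSubgroup p G

/-- The Thompson subgroup of the Sylow subgroup. -/
abbrev Jm (S : Sylow p G) : Subgroup G := thompsonSubgroupOf p (S : Subgroup G)

/-- `Ω₁(Z(J(S)))`. -/
abbrev Zm (S : Sylow p G) : Subgroup G := omegaZ p (Jm S)

/-- The Baumann subgroup. -/
abbrev Bm (S : Sylow p G) : Subgroup G := (S : Subgroup G) ⊓ centralizer (Zm S : Set G)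

instance Vm_normal : (Vm p G).Normal := by
  haveI : (Cfsg.pCore p G).Normal := normal_of_characteristic _
  exact H31.PushUp.omegaZ_normal _

instance Cm_normal : (Cm p G).Normal := Subgroup.normal_centralizer

instance Lm_normal : (Lm p G).Normal := by
  haveI := H31.PushUp.characteristic_thompson (p := p) (⊤ : Subgroup G)
  have h : Lm p G = (thompsonSubgroup p ↥(⊤ : Subgroup G)).map (⊤ : Subgroup G).subtype := by
    exact (H31.thompsonSubgroupOf_top p).symm
  rw [h]
  exact ConjAct.normal_of_characteristic_of_normal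

theorem map_conj_mem_normalizer {P : Subgroup G} {f : Subgroup G → Subgroup G}
    (hf : ∀ (g : G), (f P).map (MulAut.conj g).toMonoidHom = f (P.map (MulAut.conj g).toMonoidHom)) :
    normalizer (P : Set G) ≤ normalizer (f P : Set G) := fun g hg => by
  apply H31.mem_normalizer_of_map_conj
  rw [hf, H31.map_conj_eq_of_mem_normalizer hg]

theorem normalizer_Jm_le_Zm (S : Sylow p G) :
    normalizer (Jm S : Set G) ≤ normalizer (Zm S : Set G) :=
  map_conj_mem_normalizer (f := omegaZ p) fun g => map_omegaZ (MulAut.conj g).injective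

theorem sylow_le_normalizer_Jm (S : Sylow p G) :
    (S : Subgroup G) ≤ normalizer (Jm S : Set G) :=
  le_normalizer.trans (H31.normalizer_le_normalizer_thompsonSubgroupOf p _)

theorem sylow_le_normalizer_Bm (S : Sylow p G) :
    (S : Subgroup G) ≤ normalizer (Bm S : Set G) := by
  intro g hg
  apply H31.mem_normalizer_of_map_conj
  have hZ := H31.map_conj_eq_of_mem_normalizer
    (normalizer_Jm_le_Zm S (sylow_le_normalizer_Jm S hg))
  have hSg := H31.map_conj_eq_of_mem_normalizer (le_normalizer hg : g ∈ normalizer ((S : Subgroup G) : Set G))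
  ext x
  constructor
  · rintro ⟨y, hy, rfl⟩
    refine ⟨hSg.le ⟨y, hy.1, rfl⟩, mem_centralizer_iff.mpr fun z hz => ?_⟩
    obtain ⟨w, hw, rfl⟩ := hZ.ge hz
    simp only [MulEquiv.coe_toMonoidHom, MulAut.conj_apply]
    have h := mem_centralizer_iff.mp hy.2 w hw
    calc g * w * g⁻¹ * (g * y * g⁻¹) = g * (w * y) * g⁻¹ := by group
      _ = g * (y * w) * g⁻¹ := by rw [h]
      _ = g * y * g⁻¹ * (g * w * g⁻¹) := by group
  · intro hx
    obtain ⟨y, hy, rfl⟩ := hSg.ge hx.1
    refine ⟨y, ⟨hy, mem_centralizer_iff.mpr fun w hw => ?_⟩, rfl⟩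
    have h := mem_centralizer_iff.mp hx.2 _ (hZ.le ⟨w, hw, rfl⟩)
    simp only [MulEquiv.coe_toMonoidHom, MulAut.conj_apply] at h
    have h' : g * (w * y) * g⁻¹ = g * (y * w) * g⁻¹ := by
      calc g * (w * y) * g⁻¹ = g * w * g⁻¹ * (g * y * g⁻¹) := by group
        _ = g * y * g⁻¹ * (g * w * g⁻¹) := h
        _ = g * (y * w) * g⁻¹ := by group
    exact mul_left_cancel (mul_right_cancel h')

theorem Jm_le (S : Sylow p G) : Jm S ≤ (S : Subgroup G) := H31.thompsonSubgroupOf_le p _

theorem Jm_le_Lm (S : Sylow p G) : Jm S ≤ Lm p G := by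
  rw [Jm, H31.thompsonSubgroupOf_eq, Lm, H31.thompsonSubgroup_eq]
  exact sSup_le fun A hA => le_sSup ((H31.maxIn_sylow_iff S).mp hA).2

theorem Zm_le_maxIn (S : Sylow p G) {A : Subgroup G} (hA : H31.MaxIn p (S : Subgroup G) A) :
    Zm S ≤ A :=
  H31.omegaOne_center_le_maxIn ((H31.maxIn_iff_of_le le_rfl (Jm_le S)).mpr hA)

theorem Jm_le_Bm (S : Sylow p G) : Jm S ≤ Bm S :=
  le_inf (Jm_le S) fun _ hx => mem_centralizer_iff.mpr fun _ hz => (omegaZ_comm hz hx).symm

/-- The Baumann subgroup as a characteristic subgroup of the Sylow subgroup. -/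
theorem Bm_char (S : Sylow p G) :
    ∃ T : Subgroup ↥(S : Subgroup G), T.Characteristic ∧ T.map (S : Subgroup G).subtype = Bm S := by
  set P := ↥(S : Subgroup G)
  set T : Subgroup P := centralizer
    ((omegaZ p (thompsonSubgroup p P) : Subgroup P) : Set P) with hT
  have hfix : ∀ φ : P ≃* P, (omegaZ p (thompsonSubgroup p P)).map φ.toMonoidHom =
      omegaZ p (thompsonSubgroup p P) := fun φ => by
    rw [map_omegaZ φ.injective]
    congr 1
    exact characteristic_iff_map_eq.mp (H31.PushUp.characteristic_thompson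
      (S : Subgroup G)) φ
  refine ⟨T, ⟨fun φ => ?_⟩, ?_⟩
  · ext x
    simp only [mem_comap, hT, mem_centralizer_iff]
    constructor
    · intro h z hz
      exact φ.injective (by
        have := h (φ z) ((hfix φ).le ⟨z, hz, rfl⟩)
        rw [map_mul, map_mul]; exact this)
    · intro h z hz
      obtain ⟨w, hw, rfl⟩ := (hfix φ).ge hz
      show φ w * φ x = φ x * φ w
      rw [← map_mul, ← map_mul, h w hw]
  · have hz : (omegaZ p (thompsonSubgroup p P)).map (S : Subgroup G).subtype = Zm S := by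
      rw [map_omegaZ (S : Subgroup G).subtype_injective]
      rfl
    ext x
    constructor
    · rintro ⟨y, hy, rfl⟩
      refine ⟨y.2, mem_centralizer_iff.mpr fun w hw => ?_⟩
      obtain ⟨v, hv, rfl⟩ := hz.ge hw
      exact congrArg Subtype.val (mem_centralizer_iff.mp hy v hv)
    · intro hx
      refine ⟨⟨x, hx.1⟩, mem_centralizer_iff.mpr fun v hv => Subtype.ext ?_, rfl⟩
      exact mem_centralizer_iff.mp hx.2 _ (hz.le ⟨v, hv, rfl⟩)

theorem conj_le_of_Lm (S : Sylow p G) {X : Subgroup G} [X.Normal] (h : Jm S ≤ X) : Lm p G ≤ X := by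
  rw [Lm, H31.thompsonSubgroup_eq]
  refine sSup_le fun A hA => ?_
  obtain ⟨g, hg⟩ := H31.exists_conj_le_sylow S (H31.elem_isPGroup hA.2.1)
  have h1 : H31.MaxIn p (S : Subgroup G) (A.map (MulAut.conj g).toMonoidHom) := by
    refine ⟨hg, (H31.elem_map_iff (MulAut.conj g).injective).mpr hA.2.1, fun B _ hB => ?_⟩
    rw [card_map_of_injective (MulAut.conj g).injective]
    exact hA.2.2 B le_top hB
  intro a ha
  have h2 := h (H31.le_thompsonSubgroupOf h1 ⟨a, ha, rfl⟩)
  have h3 := (inferInstance : X.Normal).conj_mem _ h2 g⁻¹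
  simpa [mul_assoc] using h3

theorem omegaZ_ne_bot (S : Sylow p G) (hS : (S : Subgroup G) ≠ ⊥) : omegaZ p (S : Subgroup G) ≠ ⊥ := by
  intro hb
  haveI : Nontrivial ↥(S : Subgroup G) := (nontrivial_iff_ne_bot _).mpr hS
  haveI := S.isPGroup'.center_nontrivial
  have hp : p ∣ Nat.card (center ↥(S : Subgroup G)) := by
    obtain ⟨k, hk⟩ := (S.isPGroup'.to_subgroup (center _)).exists_card_eq
    rcases k with _ | k
    · rw [pow_zero] at hk
      exact absurd hk (Finite.one_lt_card).ne'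
    · exact hk ▸ dvd_pow_self p k.succ_ne_zero
  obtain ⟨z, hz⟩ := exists_prime_orderOf_dvd_card' p hp
  have hz' : ((z : ↥(S : Subgroup G)) : G) ∈ omegaZ p (S : Subgroup G) := by
    refine mem_omegaZ (z : ↥(S : Subgroup G)).2 (fun x hx =>
      congrArg Subtype.val (mem_center_iff.mp z.2 ⟨x, hx⟩)) ?_
    have := pow_orderOf_eq_one z
    rw [hz] at this
    simpa using congrArg (fun w : center ↥(S : Subgroup G) => ((w : ↥(S : Subgroup G)) : G)) this
  rw [hb, mem_bot] at hz'
  have : z = 1 := Subtype.ext (Subtype.ext hz')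
  rw [this, orderOf_one] at hz
  exact (Fact.out : p.Prime).one_lt.ne hz

theorem Jm_nontrivial (S : Sylow p G) (hS : (S : Subgroup G) ≠ ⊥) : Jm S ≠ ⊥ := by
  obtain ⟨A, hA⟩ := H31.exists_maxIn p (S : Subgroup G)
  exact fun hb => omegaZ_ne_bot S hS
    (le_bot_iff.mp (hb ▸ (H31.omegaOne_center_le_maxIn hA).trans (H31.le_thompsonSubgroupOf hA)))

theorem NoChar.normalizer_ne_top {S : Sylow p G} (hnc : NoChar S) {X : Subgroup G} (hX : X ≠ ⊥)
    (hc : ∃ T : Subgroup ↥(S : Subgroup G), T.Characteristic ∧ T.map (S : Subgroup G).subtype = X) :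
    normalizer (X : Set G) ≠ ⊤ := by
  obtain ⟨T, hT, rfl⟩ := hc
  intro hn
  exact hnc T (fun hb => hX (by rw [hb, Subgroup.map_bot])) hT (normalizer_eq_top_iff.mp hn)

namespace Setup

variable {S : Sylow p G} (h : Setup p S)

include h

theorem sylow_ne_bot : (S : Subgroup G) ≠ ⊥ := fun hb =>
  h.ne (le_antisymm (hb ▸ bot_le) (Cores.pCore_le_sylow S))

theorem omegaZ_sylow_ne_bot : omegaZ p (S : Subgroup G) ≠ ⊥ :=
  Focal.omegaZ_ne_bot S h.sylow_ne_bot

theorem omegaZ_sylow_le_Vm : omegaZ p (S : Subgroup G) ≤ Vm p G := by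
  intro z hz
  have hQS := Cores.pCore_le_sylow (p := p) S
  refine mem_omegaZ (h.cent (mem_centralizer_iff.mpr fun x hx => omegaZ_comm hz (hQS hx)))
    (fun x hx => omegaZ_comm hz (hQS hx)) (H31.PushUp.omegaZ_pow hz)

theorem omegaZ_sylow_le_Zm : omegaZ p (S : Subgroup G) ≤ Zm S := by
  intro z hz
  obtain ⟨A, hA⟩ := H31.exists_maxIn p (S : Subgroup G)
  refine mem_omegaZ (H31.le_thompsonSubgroupOf hA (H31.omegaOne_center_le_maxIn hA hz))
    (fun x hx => omegaZ_comm hz (Jm_le S hx)) (H31.PushUp.omegaZ_pow hz)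

theorem sup_Cm_ne_top : (S : Subgroup G) ⊔ Cm p G ≠ ⊤ := by
  intro htop
  refine h.omega_nn (normalizer_eq_top_iff.mpr ?_)
  have hle : (S : Subgroup G) ⊔ Cm p G ≤ centralizer (omegaZ p (S : Subgroup G) : Set G) :=
    sup_le (fun x hx => mem_centralizer_iff.mpr fun z hz => (omegaZ_comm hz hx).symm)
      (centralizer_le h.omegaZ_sylow_le_Vm)
  rw [htop] at hle
  refine ⟨fun z hz g => ?_⟩
  have := mem_centralizer_iff.mp (hle (mem_top g)) z hz
  rwa [← this, mul_inv_cancel_right]

theorem normal_cases (N : Subgroup G) [N.Normal] :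
    (S : Subgroup G) ⊔ N = ⊤ ∨ (S : Subgroup G) ⊓ N ≤ Cfsg.pCore p G := by
  by_cases hSN : (S : Subgroup G) ⊔ N = ⊤
  · exact Or.inl hSN
  right
  obtain ⟨M, hM, hover⟩ := h.exists_max
  have hfr := H31.normalizer_sylow_inf_sup S N
  have hn : normalizer (((S : Subgroup G) ⊓ N : Subgroup G) : Set G) = ⊤ := by
    by_contra hne
    refine hM (eq_top_iff.mpr (hfr ▸ sup_le (hover _ hne ?_) (le_sup_right.trans (hover _ hSN le_sup_left))))
    exact le_normalizer_iff.mpr fun s hs z hz =>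
      ⟨Subgroup.mul_mem _ (Subgroup.mul_mem _ hs hz.1) (Subgroup.inv_mem _ hs), (inferInstance : N.Normal).conj_mem z hz.2 s⟩
  haveI := normalizer_eq_top_iff.mp hn
  exact Cores.le_pCore (S.isPGroup'.to_le inf_le_left)

theorem pCore_le_Cm : Cfsg.pCore p G ≤ Cm p G := fun _ hx =>
  mem_centralizer_iff.mpr fun _ hv => (omegaZ_comm hv hx).symm

theorem sylow_inf_Cm : (S : Subgroup G) ⊓ Cm p G = Cfsg.pCore p G :=
  le_antisymm ((h.normal_cases (Cm p G)).resolve_left h.sup_Cm_ne_top)
    (le_inf (Cores.pCore_le_sylow S) h.pCore_le_Cm)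

theorem Jm_ne_bot : Jm S ≠ ⊥ := Jm_nontrivial S h.sylow_ne_bot

theorem normalizer_Jm_ne_top : normalizer (Jm S : Set G) ≠ ⊤ := h.jm_nn

theorem Bm_ne_bot : Bm S ≠ ⊥ := fun hb => h.Jm_ne_bot (le_bot_iff.mp (hb ▸ Jm_le_Bm S))

theorem normalizer_Bm_ne_top : normalizer (Bm S : Set G) ≠ ⊤ :=
  h.bm_nn

theorem Jm_not_le_pCore : ¬ Jm S ≤ Cfsg.pCore p G := fun hle => by
  refine h.normalizer_Jm_ne_top (eq_top_iff.mpr ?_)
  rw [Jm, ← H31.thompsonSubgroupOf_eq_of_le hle (Cores.pCore_le_sylow S)]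
  refine le_trans ?_ (H31.normalizer_le_normalizer_thompsonSubgroupOf p _)
  rw [normalizer_eq_top_iff.mpr (normal_of_characteristic _)]

theorem normalizer_Jm_sup_Lm : normalizer (Jm S : Set G) ⊔ Lm p G = ⊤ := by
  rw [eq_top_iff, ← H31.normalizer_sylow_inf_sup S (Lm p G)]
  refine sup_le_sup_right ?_ _
  refine (H31.normalizer_le_normalizer_thompsonSubgroupOf p _).trans (le_of_eq ?_)
  rw [H31.thompsonSubgroupOf_eq_of_le (le_inf (Jm_le S) (Jm_le_Lm S)) inf_le_left]

theorem sup_Lm : (S : Subgroup G) ⊔ Lm p G = ⊤ := by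
  by_contra hne
  obtain ⟨M, hM, hover⟩ := h.exists_max
  exact hM (eq_top_iff.mpr (h.normalizer_Jm_sup_Lm ▸ sup_le
    (hover _ h.normalizer_Jm_ne_top (sylow_le_normalizer_Jm S))
    (le_sup_right.trans (hover _ hne le_sup_left))))

/-- `L` is generated by the `L`-conjugates of `J(S)`. -/
theorem Lm_le {X : Subgroup G} (hX : ∀ l ∈ Lm p G, ∀ a ∈ Jm S, l * a * l⁻¹ ∈ X) : Lm p G ≤ X := by
  set Y := closure {x : G | ∃ l ∈ Lm p G, ∃ a ∈ Jm S, x = l * a * l⁻¹} with hY
  have hn : Y.Normal := by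
    rw [← normalizer_eq_top_iff, eq_top_iff, ← h.normalizer_Jm_sup_Lm]
    refine sup_le ?_ ?_ <;>
    · intro g hg
      refine H31.mem_normalizer_of_map_conj (eq_of_le_of_card_ge ?_
        (card_map_of_injective (MulAut.conj g).injective).ge)
      rw [hY, MonoidHom.map_closure, closure_le]
      rintro _ ⟨_, ⟨l, hl, a, ha, rfl⟩, rfl⟩
      first
        | exact subset_closure ⟨g * l * g⁻¹, (inferInstance : (Lm p G).Normal).conj_mem l hl g,
            g * a * g⁻¹, (mem_normalizer_iff.mp hg a).mp ha, by simp [mul_assoc]⟩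
        | exact subset_closure ⟨g * l, mul_mem hg hl, a, ha, by simp [mul_assoc]⟩
  refine (conj_le_of_Lm S (X := Y) fun a ha => subset_closure ⟨1, one_mem _, a, ha, by simp⟩).trans ?_
  rw [hY, closure_le]
  rintro _ ⟨l, hl, a, ha, rfl⟩
  exact hX l hl a ha

theorem eq_top_of_sup_Cm {Y : Subgroup G} (hQY : Cfsg.pCore p G ≤ Y) (hY : Y ⊔ Cm p G = ⊤) : Y = ⊤ := by
  have hidx : ¬ p ∣ Y.index := by
    have h1 : Y.index ∣ (Cfsg.pCore p G).relIndex (Cm p G) := by
      have e1 : Y.index = Y.relIndex (Cm p G) := by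
        have h2 := Cores.card_sup_mul_card_inf Y (Cm p G)
        rw [hY, card_top] at h2
        have h3 := card_mul_index Y
        have h4 := H31.relIndex_mul_card_inf (Cm p G) Y
        rw [inf_comm] at h4
        refine Nat.eq_of_mul_eq_mul_left (Nat.mul_pos (Nat.card_pos (α := Y))
          (Nat.card_pos (α := (Y ⊓ Cm p G : Subgroup G)))) ?_
        rw [mul_right_comm, h3, h2, mul_assoc, mul_comm (Nat.card (Y ⊓ Cm p G : Subgroup G)), h4]
      rw [e1]
      exact relIndex_dvd_of_le_left _ hQY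
    intro hd
    have h2 := hd.trans h1
    rw [← h.sylow_inf_Cm, inf_relIndex_right] at h2
    exact H31.sylow_relIndex_not_dvd S (Cm p G) h2
  obtain ⟨R⟩ : Nonempty (Sylow p Y) := inferInstance
  have hRi : ¬ p ∣ ((R : Subgroup Y).map Y.subtype).index := by
    rw [index_map_subtype]
    exact fun hd => ((Fact.out : p.Prime).dvd_mul.mp hd).elim R.not_dvd_index hidx
  obtain ⟨g, hg⟩ := MulAction.exists_smul_eq G ((R.isPGroup'.map Y.subtype).toSylow hRi) S
  have hS : (S : Subgroup G) ≤ Y.map (MulAut.conj g).toMonoidHom := by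
    rw [← hg, Sylow.coe_subgroup_smul, Subgroup.pointwise_smul_def]
    exact map_mono (map_subtype_le _)
  by_contra hne
  obtain ⟨M, hM, hover⟩ := h.exists_max
  have hne' : Y.map (MulAut.conj g).toMonoidHom ≠ ⊤ := fun e => hne (by
    rw [← comap_map_eq_self_of_injective (f := (MulAut.conj g).toMonoidHom) (MulAut.conj g).injective Y,
      e, comap_top])
  refine hM (eq_top_iff.mpr ?_)
  have hCg : (Cm p G).map (MulAut.conj g).toMonoidHom = Cm p G :=
    H31.map_conj_eq_of_mem_normalizer (by rw [normalizer_eq_top_iff.mpr inferInstance]; trivial)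
  rw [← map_top_of_surjective (MulAut.conj g).toMonoidHom (MulAut.conj g).surjective, ← hY,
    Subgroup.map_sup, hCg]
  exact sup_le (hover _ hne' hS) (le_sup_right.trans (hover _ h.sup_Cm_ne_top le_sup_left))

theorem isPMinimal : Cfsg.IsPMinimal p G := by
  obtain ⟨M, hM, hover⟩ := h.exists_max
  have hSne : (S : Subgroup G) ≠ ⊤ := fun e => by
    refine h.normalizer_Jm_ne_top (eq_top_iff.mpr ?_)
    exact e ▸ sylow_le_normalizer_Jm S
  obtain ⟨N, hN, hMN⟩ := (eq_top_or_exists_le_coatom M).resolve_left hM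
  have hSN : (S : Subgroup G) ≤ N := (hover _ hSne le_rfl).trans hMN
  have hNM : N = M := le_antisymm (hover _ hN.1 hSN) hMN
  intro R
  obtain ⟨g, hg⟩ := MulAction.exists_smul_eq G S R
  have hR : (R : Subgroup G) = (S : Subgroup G).map (MulAut.conj g).toMonoidHom := by
    rw [← hg, Sylow.coe_subgroup_smul, Subgroup.pointwise_smul_def]; rfl
  refine ⟨fun hn => h.ne (le_antisymm ?_ (Cores.pCore_le_sylow S)), ?_⟩
  · haveI := hn
    have h1 : (R : Subgroup G) ≤ Cfsg.pCore p G := Cores.le_pCore R.isPGroup'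
    haveI : (Cfsg.pCore p G).Normal := normal_of_characteristic _
    intro x hx
    have h2 := (inferInstance : (Cfsg.pCore p G).Normal).conj_mem _ (h1 (hR.ge ⟨x, hx, rfl⟩)) g⁻¹
    simpa [mul_assoc] using h2
  · let c : Subgroup G ≃o Subgroup G := (MulAut.conj g).mapSubgroup
    refine ⟨c N, ⟨(c.isCoatom_iff N).mpr hN, hR.le.trans (c.monotone hSN)⟩, fun N' hN' => ?_⟩
    obtain ⟨hN'1, hN'2⟩ := hN'
    have h1 : IsCoatom (c.symm N') := (c.symm.isCoatom_iff N').mpr hN'1
    have h2 : (S : Subgroup G) ≤ c.symm N' := by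
      rw [c.le_symm_apply]; exact hR.ge.trans hN'2
    have h3 : c.symm N' = N := by
      refine (h1.le_iff.mp ?_).resolve_left (fun e => hN.1 e) |>.symm
      exact (hover _ h1.1 h2).trans hMN
    rw [← h3, c.apply_symm_apply]

theorem cStarStar_ne_top : Cfsg.cStarStarOf p (S : Subgroup G) ≠ ⊤ := by
  obtain ⟨M, hM, hover⟩ := h.exists_max
  intro e
  refine hM (eq_top_iff.mpr (e ▸ sup_le (hover _ ?_ ?_) (hover _ h.normalizer_Jm_ne_top
    (sylow_le_normalizer_Jm S))))
  · intro hc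
    refine h.omega_nn (normalizer_eq_top_iff.mpr ⟨fun z hz g => ?_⟩)
    have := mem_centralizer_iff.mp (hc.ge (mem_top g)) z hz
    rwa [← this, mul_inv_cancel_right]
  · exact fun x hx => mem_centralizer_iff.mpr fun z hz => (omegaZ_comm hz hx).symm

end Setup

end Cfsg.Agent.H67.Focal
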