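import Cfsg.Agent.H67.Focal.Involution

/-!
Baumann's lemma: the Baumann subgroup is a Sylow subgroup of a normal subgroup, and modulo the
centralizer of the module it is the product of the root groups.
-/

set_option autoImplicit false
set_option linter.unusedSectionVars false
set_option linter.style.haveILetI false

namespace Cfsg.Agent.H67.Focal

open Subgroup Cfsg.Agent Matrix
open Cfsg.Agent.H31.PushUp (omegaZ Vm omegaZ_le omegaZ_comm mem_omegaZ map_omegaZ omegaZ_pow)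
open scoped commutatorElement

universe u

variable {G : Type u} [Group G] [Finite G] {p : ℕ} [Fact p.Prime]

/-- The normal subgroup in which the Baumann subgroup is a Sylow subgroup. -/
abbrev Lhat (S : Sylow p G) : Subgroup G := Lm p G ⊔ Qm S

namespace ZGood

variable {S : Sylow p G} {b : Blocks S} {z : G} (hz : ZGood b z) (h : Setup p S)

include hz h

theorem fixed_comm_Jm {w : G} (hw : w ∈ Wm S) (hzw : z * w * z⁻¹ = w) {a : G} (ha : a ∈ Jm S) :
    a * w * a⁻¹ = w := by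
  have he := h.Wm_elem b
  obtain ⟨v, hv, c, hc, rfl⟩ := mem_sup_of_normal_left.mp (show w ∈ Vm p G ⊔ Zm S from hw)
  have hvW : v ∈ Wm S := mem_sup_left hv
  have hcW : c ∈ Wm S := mem_sup_right hc
  have hcz : z * c * z⁻¹ ∈ Zm S := (mem_normalizer_iff.mp (normalizer_Jm_le_Zm S hz.norm) c).mp hc
  have e1 : v * c * (v * c) = v * (z * v * z⁻¹) * (c * (z * c * z⁻¹)) := by
    calc v * c * (v * c) = v * c * (z * (v * c) * z⁻¹) := by rw [hzw]
      _ = v * (c * (z * v * z⁻¹)) * (z * c * z⁻¹) := by group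
      _ = v * (z * v * z⁻¹ * c) * (z * c * z⁻¹) := by
          rw [H31.elem_comm he hcW (hz.conj_mem_Wm h hvW z)]
      _ = v * (z * v * z⁻¹) * (c * (z * c * z⁻¹)) := by group
  have h0 : b.ψ (v * (z * v * z⁻¹)) = 0 := by
    rw [b.ψ_mul _ hv _ (Blocks.conj_mem_Vm hv)]
    funext i
    rw [Pi.add_apply, show b.ψ (z * v * z⁻¹) i = _ from b.ψ_conj ⟨z, mem_sup_left hz.mem⟩ v hv i,
      hz.neg i, Matrix.SpecialLinearGroup.coe_neg, Matrix.SpecialLinearGroup.coe_one, Matrix.neg_mulVec,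
      Matrix.one_mulVec]
    exact add_neg_cancel _
  have h1 : a * (v * (z * v * z⁻¹)) * a⁻¹ = v * (z * v * z⁻¹) :=
    b.fixed _ (mul_mem hv (Blocks.conj_mem_Vm hv)) h0 a (mem_sup_left (Jm_le_Lm S ha))
  have h2 : a * (c * (z * c * z⁻¹)) * a⁻¹ = c * (z * c * z⁻¹) := by
    rw [omegaZ_comm (mul_mem hc hcz) ha, mul_inv_cancel_right]
  have h3 : a * (v * c * (v * c)) * a⁻¹ = v * c * (v * c) := by
    rw [e1]
    calc a * (v * (z * v * z⁻¹) * (c * (z * c * z⁻¹))) * a⁻¹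
        = (a * (v * (z * v * z⁻¹)) * a⁻¹) * (a * (c * (z * c * z⁻¹)) * a⁻¹) := by group
      _ = _ := by rw [h1, h2]
  rw [eq_sq_pow h.odd (he.2 _ (mul_mem hvW hcW)), ← conj_pow, h3]

theorem Lm_fixes {w : G} (hw : w ∈ Wm S) (hzw : z * w * z⁻¹ = w) {l : G} (hl : l ∈ Lm p G) :
    l * w * l⁻¹ = w := by
  haveI := h.Wm_normal b
  have hWe := h.Wm_elem b
  set C1 : Subgroup G := Wm S ⊓ centralizer ({z} : Set G) with hC1
  have hmem : ∀ x, x ∈ C1 ↔ x ∈ Wm S ∧ z * x * z⁻¹ = x := by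
    intro x
    simp only [hC1, mem_inf, mem_centralizer_iff, Set.mem_singleton_iff, forall_eq, mul_inv_eq_iff_eq_mul]
  set T : G →* MulAut ↥(Wm S) := MulAut.conjNormal with hT
  have hTapp : ∀ (g : G) (x : ↥(Wm S)), ((T g x : ↥(Wm S)) : G) = g * x * g⁻¹ := fun g x =>
    MulAut.conjNormal_apply g x
  have hZ2 : T z * T z = 1 := by
    refine MulEquiv.ext fun x => Subtype.ext ?_
    rw [← map_mul, hTapp]
    exact hz.sq x x.2
  have hsup : normalizer (C1 : Set G) ⊔ Cm p G = ⊤ := by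
    refine eq_top_iff.mpr fun g _ => ?_
    set zl : ↥(LC p G) := ⟨z, mem_sup_left hz.mem⟩ with hzl
    set c := g * z * g⁻¹ * z⁻¹ with hc
    have hcL : c ∈ Lm p G :=
      mul_mem ((inferInstance : (Lm p G).Normal).conj_mem z hz.mem g) (inv_mem hz.mem)
    have hcC : c ∈ Cm p G := by
      have hρ := b.ρ_conj_neg h.odd zl hz.neg g
      refine b.mem_Cm_of_ρ h (g := ⟨c, mem_sup_left hcL⟩) ?_
      have e : (⟨c, mem_sup_left hcL⟩ : ↥(LC p G)) =
          ⟨g * z * g⁻¹, (inferInstance : (LC p G).Normal).conj_mem _ zl.2 g⟩ * zl⁻¹ := Subtype.ext rfl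
      rw [e, map_mul, map_inv]
      simp only [hzl] at hρ ⊢
      rw [hρ, mul_inv_cancel]
    have hcp : T c ^ p = 1 := by
      refine MulEquiv.ext fun x => Subtype.ext ?_
      rw [← map_pow, hTapp, MulAut.one_apply]
      set d := c * (x : G) * c⁻¹ * (x : G)⁻¹ with hd
      have hdV : d ∈ Vm p G := h.Lm_trivial_mod b hcL (h.Wm_le_Wbig b x.2)
      have hfix : c * d * c⁻¹ = d := by
        rw [← mem_centralizer_iff.mp hcC d hdV, mul_inv_cancel_right]
      have hn : ∀ n : ℕ, c ^ n * (x : G) * (c ^ n)⁻¹ = d ^ n * x := by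
        intro n
        induction n with
        | zero => simp
        | succ n ih =>
          calc c ^ (n + 1) * (x : G) * (c ^ (n + 1))⁻¹ = c * (c ^ n * x * (c ^ n)⁻¹) * c⁻¹ := by
                rw [pow_succ']; group
            _ = c * (d ^ n * x) * c⁻¹ := by rw [ih]
            _ = c * d ^ n * c⁻¹ * (c * x * c⁻¹ * (x : G)⁻¹ * x) := by group
            _ = (c * d * c⁻¹) ^ n * (d * x) := by rw [conj_pow, hd]
            _ = d ^ (n + 1) * x := by rw [hfix, pow_succ, ← mul_assoc]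
      rw [hn p, omegaZ_pow hdV, one_mul]
    set m := (p + 1) / 2 with hm
    obtain ⟨q, hq⟩ := (Fact.out : p.Prime).odd_of_ne_two h.odd
    have h2m : m * 2 = p + 1 := by omega
    have hgz : T (g * z * g⁻¹) = T c * T z := by rw [← map_mul, hc, inv_mul_cancel_right]
    have hinv : T z * T c * T z = (T c)⁻¹ := by
      have h1 : T (g * z * g⁻¹) * T (g * z * g⁻¹) = 1 := by
        have e : T g * T z * (T g)⁻¹ * (T g * T z * (T g)⁻¹) = T g * (T z * T z) * (T g)⁻¹ := by group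
        rw [map_mul, map_mul, map_inv, e, hZ2, mul_one, mul_inv_cancel]
      rw [hgz] at h1
      refine eq_inv_of_mul_eq_one_right ?_
      simpa [mul_assoc] using h1
    have hzinv : (T z)⁻¹ = T z := inv_eq_of_mul_eq_one_right hZ2
    set d := c ^ m with hd
    have hdC : d ∈ Cm p G := pow_mem hcC m
    have hD : T z * T d * T z = (T d)⁻¹ := by
      have e : ∀ X, T z * X * T z = T z * X * (T z)⁻¹ := fun X => by rw [hzinv]
      rw [hd, map_pow, ← inv_pow, ← hinv, e, e, conj_pow]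
    have hn : T (d⁻¹ * g * z * (d⁻¹ * g)⁻¹) = T z := by
      have h1 : T d * T z * (T d)⁻¹ = T (g * z * g⁻¹) := by
        rw [hgz, ← hD]
        calc T d * T z * (T z * T d * T z) = T d * (T z * T z) * T d * T z := by group
          _ = T c ^ (m * 2) * T z := by rw [hZ2, mul_one, hd, map_pow, ← pow_add, mul_two]
          _ = T c * T z := by rw [h2m, pow_succ, hcp, one_mul]
      have e : d⁻¹ * g * z * (d⁻¹ * g)⁻¹ = d⁻¹ * (g * z * g⁻¹) * d := by group
      rw [e, map_mul, map_mul, map_inv, ← h1]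
      group
    have hnN : d⁻¹ * g ∈ normalizer (C1 : Set G) := by
      refine H31.mem_normalizer_of_map_conj (eq_of_le_of_card_ge ?_
        (card_map_of_injective (MulAut.conj (d⁻¹ * g)).injective).ge)
      rintro _ ⟨x, hx, rfl⟩
      set n := d⁻¹ * g with hn'
      obtain ⟨hxW, hzx⟩ := (hmem x).mp hx
      have hy : n * x * n⁻¹ ∈ Wm S := hz.conj_mem_Wm h hxW n
      refine (hmem _).mpr ⟨hy, ?_⟩
      simp only [MulEquiv.coe_toMonoidHom, MulAut.conj_apply]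
      have h3 := congrArg (fun f : MulAut ↥(Wm S) => ((f ⟨_, hy⟩ : ↥(Wm S)) : G)) hn
      simp only [hTapp] at h3
      rw [← h3]
      calc n * z * n⁻¹ * (n * x * n⁻¹) * (n * z * n⁻¹)⁻¹ = n * (z * x * z⁻¹) * n⁻¹ := by group
        _ = n * x * n⁻¹ := by rw [hzx]
    have hg : g = d * (d⁻¹ * g) := by group
    rw [hg]
    exact mul_mem (mem_sup_right hdC) (mem_sup_left hnN)
  haveI : (Cfsg.pCore p G).Normal := normal_of_characteristic _
  have hY : normalizer (C1 : Set G) ⊔ Cfsg.pCore p G = ⊤ :=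
    h.eq_top_of_sup_Cm le_sup_right (top_le_iff.mp (hsup.ge.trans (sup_le_sup_right le_sup_left _)))
  have hle : Lm p G ≤ centralizer (C1 : Set G) := by
    refine h.Lm_le fun l hl a ha => mem_centralizer_iff.mpr fun x hx => ?_
    obtain ⟨n, hn, q, hq, rfl⟩ := mem_sup_of_normal_right.mp (hY.ge (mem_top l))
    have ha' : q * a * q⁻¹ ∈ Jm S :=
      (mem_normalizer_iff.mp (sylow_le_normalizer_Jm S (Cores.pCore_le_sylow S hq)) a).mp ha
    have hxn : n⁻¹ * x * n ∈ C1 := by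
      have := (mem_normalizer_iff.mp (inv_mem hn) x).mp hx
      simpa using this
    obtain ⟨hW', hfix⟩ := (hmem _).mp hxn
    have hc := hz.fixed_comm_Jm h hW' hfix ha'
    generalize hA : q * a * q⁻¹ = a' at hc
    have e : n * q * a * (n * q)⁻¹ = n * a' * n⁻¹ := by rw [← hA]; group
    rw [e]
    rw [mul_inv_eq_iff_eq_mul] at hc
    calc x * (n * a' * n⁻¹) = n * (n⁻¹ * x * n * a') * n⁻¹ := by group
      _ = n * (a' * (n⁻¹ * x * n)) * n⁻¹ := by rw [hc]
      _ = n * a' * n⁻¹ * x := by group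
  rw [← mem_centralizer_iff.mp (hle hl) w ((hmem w).mpr ⟨hw, hzw⟩), mul_inv_cancel_right]

theorem Lm_inf_Cm_le {l : G} (hl : l ∈ Lm p G) (hlC : l ∈ Cm p G) : l ∈ centralizer (Wm S : Set G) := by
  refine mem_centralizer_iff.mpr fun w hw => ?_
  obtain ⟨f, v, hf, hfz, hv, -, hfv, -⟩ := hz.split h hw
  have h1 : l * f * l⁻¹ = f := hz.Lm_fixes h hf hfz hl
  have h2 : l * v * l⁻¹ = v := by rw [← mem_centralizer_iff.mp hlC v hv, mul_inv_cancel_right]
  have h3 : l * (w * w) * l⁻¹ = w * w := by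
    rw [hfv]
    calc l * (f * v) * l⁻¹ = (l * f * l⁻¹) * (l * v * l⁻¹) := by group
      _ = f * v := by rw [h1, h2]
  have h4 : l * w * l⁻¹ = w := by
    rw [eq_sq_pow h.odd ((h.Wm_elem b).2 w hw), ← conj_pow, h3]
  exact (mul_inv_eq_iff_eq_mul.mp h4).symm

theorem bottom_zero_of_comm {v : G} (hv : v ∈ Vm p G) (hc : ∀ a ∈ Jm S, a * v * a⁻¹ = v)
    (i : Fin b.r) : b.ψ v i 1 = 0 := by
  obtain ⟨a, ha, hai⟩ : ∃ a, ∃ ha : a ∈ Jm S, b.ρ ⟨a, mem_sup_left (Jm_le_Lm S ha)⟩ i ≠ 1 := by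
    by_contra hne
    push Not at hne
    set K : Subgroup G := (((Pi.evalMonoidHom _ i).comp b.ρ).ker).map (LC p G).subtype with hK
    have hle : Lm p G ≤ K := h.Lm_le fun l hl a ha =>
      ⟨⟨l * a * l⁻¹, mem_sup_left ((inferInstance : (Lm p G).Normal).conj_mem a (Jm_le_Lm S ha) l)⟩, by
        rw [SetLike.mem_coe, MonoidHom.mem_ker]
        have e : (⟨l * a * l⁻¹, mem_sup_left ((inferInstance : (Lm p G).Normal).conj_mem a (Jm_le_Lm S ha) l)⟩ :
            ↥(LC p G)) = ⟨l, mem_sup_left hl⟩ * ⟨a, mem_sup_left (Jm_le_Lm S ha)⟩ * ⟨l, mem_sup_left hl⟩⁻¹ :=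
          Subtype.ext rfl
        rw [e, map_mul, map_mul, map_inv]
        change _ * b.ρ ⟨a, _⟩ i * _ = 1
        rw [hne a ha, mul_one, mul_inv_cancel], rfl⟩
    obtain ⟨x, hx, hxz⟩ := hle hz.mem
    have h1 : b.ρ x i = 1 := hx
    have e : x = ⟨z, mem_sup_left hz.mem⟩ := Subtype.ext hxz
    rw [e, hz.neg i] at h1
    exact neg_one_ne_one (p := p) h.odd h1
  refine b.bottom_zero_of_fixed ⟨a, mem_sup_left (Jm_le_Lm S ha)⟩ (Jm_le S ha) hv hai ?_
  rw [hc a ha]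

/-- The elements of the module with zero bottom coordinates are centralised by `S ∩ LC`. -/
theorem conj_eq_of_bottom {v : G} (hv : v ∈ Vm p G) (h0 : ∀ i, b.ψ v i 1 = 0) (g : ↥(LC p G))
    (hg : (g : G) ∈ (S : Subgroup G)) : (g : G) * v * (g : G)⁻¹ = v := by
  set zl : ↥(LC p G) := ⟨z, mem_sup_left hz.mem⟩ with hzl
  obtain ⟨f, v', hf, -, hv', hinv, hfv, hfdef⟩ := hz.split h (show v ∈ Wm S from mem_sup_left hv)
  have hfV : f ∈ Vm p G := hfdef ▸ mul_mem hv (Blocks.conj_mem_Vm hv)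
  have hf0 : b.ψ f = 0 := by
    rw [hfdef, b.ψ_mul _ hv _ (Blocks.conj_mem_Vm hv)]
    funext i
    rw [Pi.add_apply, show b.ψ (z * v * z⁻¹) i = _ from b.ψ_conj zl v hv i,
      hz.neg i, Matrix.SpecialLinearGroup.coe_neg, Matrix.SpecialLinearGroup.coe_one, Matrix.neg_mulVec,
      Matrix.one_mulVec]
    exact add_neg_cancel _
  have h1 : (g : G) * f * (g : G)⁻¹ = f := b.fixed f hfV hf0 g g.2
  have h0' : ∀ i, b.ψ v' i 1 = 0 := fun i => by
    have e := congrFun (congrFun (congrArg b.ψ hfv) i) 1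
    rw [b.ψ_mul _ hv _ hv, b.ψ_mul _ hfV _ hv', hf0, zero_add, Pi.add_apply, Pi.add_apply, h0 i,
      add_zero] at e
    exact e.symm
  have h2 : (g : G) * v' * (g : G)⁻¹ = v' :=
    hz.conj_eq_of_inv h hv' hinv (b.ψ_conj_of_bottom g hg hv' h0')
  rw [eq_sq_pow h.odd (omegaZ_pow hv), ← conj_pow, hfv]
  congr 1
  calc (g : G) * (f * v') * (g : G)⁻¹ = ((g : G) * f * (g : G)⁻¹) * ((g : G) * v' * (g : G)⁻¹) := by group
    _ = f * v' := by rw [h1, h2]

theorem bottom_le_Zm {v : G} (hv : v ∈ Vm p G) (h0 : ∀ i, b.ψ v i 1 = 0) : v ∈ Zm S := by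
  have hc : ∀ a ∈ Jm S, a * v = v * a := fun a ha =>
    mul_inv_eq_iff_eq_mul.mp (hz.conj_eq_of_bottom h hv h0 ⟨a, mem_sup_left (Jm_le_Lm S ha)⟩ (Jm_le S ha))
  obtain ⟨A, hA⟩ := H31.exists_maxIn p (S : Subgroup G)
  refine mem_omegaZ (H31.le_thompsonSubgroupOf hA (inf_centralizer_le_maxIn hA Vm_elem (Vm_le_sylow S)
    ⟨hv, mem_centralizer_iff.mpr fun a ha => hc a (H31.le_thompsonSubgroupOf hA ha)⟩)) hc (omegaZ_pow hv)

theorem sylow_inf_Lm_le_Bm : (S : Subgroup G) ⊓ Lm p G ≤ Bm S := by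
  rintro x ⟨hxS, hxL⟩
  refine ⟨hxS, mem_centralizer_iff.mpr fun c hc => ?_⟩
  have hcW : c ∈ Wm S := mem_sup_right hc
  obtain ⟨f, v, hf, hfz, hv, -, hcv, hfdef⟩ := hz.split h hcW
  have hcz : z * c * z⁻¹ ∈ Zm S := (mem_normalizer_iff.mp (normalizer_Jm_le_Zm S hz.norm) c).mp hc
  have hvZ : v ∈ Zm S := by
    have : v = f⁻¹ * (c * c) := by rw [hcv]; group
    rw [this, hfdef]
    exact mul_mem (inv_mem (mul_mem hc hcz)) (mul_mem hc hc)
  have h0 : ∀ i, b.ψ v i 1 = 0 := hz.bottom_zero_of_comm h hv fun a ha => by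
    rw [omegaZ_comm hvZ ha, mul_inv_cancel_right]
  have h1 : x * v * x⁻¹ = v := hz.conj_eq_of_bottom h hv h0 ⟨x, mem_sup_left hxL⟩ hxS
  have h2 : x * f * x⁻¹ = f := hz.Lm_fixes h hf hfz hxL
  have h3 : x * c * x⁻¹ = c := by
    rw [eq_sq_pow h.odd ((h.Wm_elem b).2 c hcW), ← conj_pow, hcv]
    congr 1
    calc x * (f * v) * x⁻¹ = (x * f * x⁻¹) * (x * v * x⁻¹) := by group
      _ = f * v := by rw [h1, h2]
  exact (mul_inv_eq_iff_eq_mul.mp h3).symm

theorem pCore_inf_Lm_le : Cfsg.pCore p G ⊓ Lm p G ≤ Qm S := fun _ hx =>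
  ⟨hx.1, hz.Lm_inf_Cm_le h hx.2 (h.pCore_le_Cm hx.1)⟩

end ZGood

end Cfsg.Agent.H67.Focal
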