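import Cfsg.Agent.H31.PushUp.RankOne

/-!
Elementary facts about unipotent elements and subgroups of the special linear group of dimension two.
-/

set_option autoImplicit false
set_option linter.unusedSectionVars false

namespace Cfsg.Agent.H67.Focal

open Matrix Subgroup Cfsg.Agent
open scoped Pointwise

variable {F : Type*} [Field F] [Fintype F] {p : ℕ} [Fact p.Prime] [CharP F p]

local notation "S2" => Matrix.SpecialLinearGroup (Fin 2) F
local notation "M2" => Matrix (Fin 2) (Fin 2) F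

theorem unitri_mulVec_iff {u : S2} (hu : u ∈ Linear.unitriSL 2 F) (hne : u ≠ 1) (x : Fin 2 → F) :
    (u : M2).mulVec x = x ↔ x 1 = 0 := by
  obtain ⟨a, b, c⟩ := Linear.unitriSL_two_eq.mp hu
  have h01 : (u : M2) 0 1 ≠ 0 := fun e =>
    hne (Linear.SL_ext_two (by simp [b]) (by simp [e]) (by simp [a]) (by simp [c]))
  constructor
  · intro h
    have h0 := congrFun h 0
    simp [Matrix.mulVec, dotProduct, Fin.sum_univ_two, b] at h0
    exact h0.resolve_left h01
  · intro h
    funext i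
    fin_cases i <;> simp [Matrix.mulVec, dotProduct, Fin.sum_univ_two, a, b, h]

theorem unitri_sub_one_sq {u : S2} (hu : u ∈ Linear.unitriSL 2 F) :
    ((u : M2) - 1) * ((u : M2) - 1) = 0 := by
  obtain ⟨a, b, c⟩ := Linear.unitriSL_two_eq.mp hu
  ext i j
  fin_cases i <;> fin_cases j <;> simp [Matrix.mul_apply, Fin.sum_univ_two, a, b, c]

theorem exists_conj_le_unitri {P : Subgroup S2} (hP : IsPGroup p P) :
    ∃ c : S2, ∀ g ∈ P, c * g * c⁻¹ ∈ Linear.unitriSL 2 F := by
  obtain ⟨R, hR⟩ := hP.exists_le_sylow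
  obtain ⟨c, hc⟩ := MulAction.exists_smul_eq S2 R (Linear.unitriSylowSL 2 F p)
  refine ⟨c, fun g hg => ?_⟩
  rw [← Linear.unitriSylowSL_coe (n := 2) (F := F) p, ← hc, Sylow.coe_subgroup_smul]
  exact Subgroup.smul_mem_pointwise_smul _ _ _ (hR hg)

theorem pElement_sub_one_sq {g : S2} {k : ℕ} (hg : g ^ p ^ k = 1) :
    ((g : M2) - 1) * ((g : M2) - 1) = 0 := by
  have hP : IsPGroup p (zpowers g) := IsPGroup.of_card_dvd_pow (n := k) (by
    rw [Nat.card_zpowers]; exact orderOf_dvd_of_pow_eq_one hg)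
  obtain ⟨c, hc⟩ := exists_conj_le_unitri hP
  have h := unitri_sub_one_sq (hc g (mem_zpowers g))
  have e1 : ((c⁻¹ : S2) : M2) * (c : M2) = 1 := by
    rw [← Matrix.SpecialLinearGroup.coe_mul, inv_mul_cancel, Matrix.SpecialLinearGroup.coe_one]
  have e2 : (c : M2) * ((c⁻¹ : S2) : M2) = 1 := by
    rw [← Matrix.SpecialLinearGroup.coe_mul, mul_inv_cancel, Matrix.SpecialLinearGroup.coe_one]
  have e3 : ((c * g * c⁻¹ : S2) : M2) - 1 = (c : M2) * ((g : M2) - 1) * ((c⁻¹ : S2) : M2) := by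
    rw [Matrix.SpecialLinearGroup.coe_mul, Matrix.SpecialLinearGroup.coe_mul, mul_sub, sub_mul, mul_one, e2]
  rw [e3] at h
  calc ((g : M2) - 1) * ((g : M2) - 1)
      = ((c⁻¹ : S2) : M2) * ((c : M2) * ((g : M2) - 1) * ((c⁻¹ : S2) : M2) *
          ((c : M2) * ((g : M2) - 1) * ((c⁻¹ : S2) : M2))) * (c : M2) := by
        have : ∀ X : M2, ((c⁻¹ : S2) : M2) * ((c : M2) * X) = X := fun X => by
          rw [← mul_assoc, e1, one_mul]
        simp only [mul_assoc, this, e1, mul_one]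
    _ = 0 := by rw [h, mul_zero, zero_mul]

theorem card_pSubgroup_le {P : Subgroup S2} (hP : IsPGroup p P) : Nat.card P ≤ Fintype.card F := by
  obtain ⟨R, hR⟩ := hP.exists_le_sylow
  refine (Subgroup.card_le_of_le hR).trans (le_of_eq ?_)
  simpa using Linear.card_sylow_SL p R

theorem eq_top_of_normal {H : Subgroup S2} [hH : H.Normal] (h : Linear.unitriSL 2 F ≤ H) : H = ⊤ := by
  by_contra hne
  obtain ⟨g, hg⟩ : ∃ g : S2, (g : M2) 1 0 ≠ 0 :=
    ⟨⟨!![1, 0; 1, 1], by simp [Matrix.det_fin_two_of]⟩, by simp⟩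
  refine hne (top_le_iff.mp (Linear.unitriSL_sup_conj_eq_top hg ▸ sup_le h ?_))
  intro x hx
  rw [mem_pointwise_smul_iff_inv_smul_mem] at hx
  have := hH.conj_mem _ (h hx) g
  simpa [mul_assoc] using this

theorem natCast_two_ne_zero (hp : p ≠ 2) : (2 : F) ≠ 0 := by
  intro h
  have h' : ((2 : ℕ) : F) = 0 := by simpa using h
  exact hp ((Nat.prime_dvd_prime_iff_eq Fact.out Nat.prime_two).mp ((CharP.cast_eq_zero_iff F p 2).mp h'))

theorem neg_one_ne_one (hp : p ≠ 2) : (-1 : S2) ≠ 1 := by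
  intro h
  have := congrArg (fun g : S2 => (g : M2) 0 0) h
  simp only [Matrix.SpecialLinearGroup.coe_neg, Matrix.SpecialLinearGroup.coe_one, Matrix.neg_apply,
    Matrix.one_apply_eq] at this
  exact natCast_two_ne_zero (F := F) hp (by linear_combination (-1 : F) * this)

end Cfsg.Agent.H67.Focal
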