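import Cfsg.Agent.H67.Focal.Basic
import Cfsg.Agent.H67.Focal.SL2

/-!
A product of groups `SL₂(F_i)` acting on natural modules: the structure of failure of factorization
on `Ω₁(Z(O_p(G)))`, in coordinates.
-/

set_option autoImplicit false
set_option linter.unusedSectionVars false
set_option linter.style.haveILetI false

namespace Cfsg.Agent.H67.Focal

open Subgroup Cfsg.Agent Matrix
open Cfsg.Agent.H31.PushUp (omegaZ Vm omegaZ_le omegaZ_comm mem_omegaZ map_omegaZ omegaZ_pow)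
open scoped commutatorElement

universe u

variable {G : Type u} [Group G] [Finite G] {p : ℕ} [Fact p.Prime]

/-- The join of the two normal subgroups. -/
abbrev LC (p : ℕ) (G : Type u) [Group G] : Subgroup G := Lm p G ⊔ Cm p G

/-- Coordinates for the action on the module. -/
structure Blocks (S : Sylow p G) where
  r : ℕ
  F : Fin r → Type
  [instF : ∀ i, Field (F i)]
  [instFin : ∀ i, Fintype (F i)]
  [instChar : ∀ i, CharP (F i) p]
  ρ : ↥(LC p G) →* ∀ i, Matrix.SpecialLinearGroup (Fin 2) (F i)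
  surj : Function.Surjective ρ
  ψ : G → ∀ i, Fin 2 → F i
  ψ_mul : ∀ v ∈ Vm p G, ∀ w ∈ Vm p G, ψ (v * w) = ψ v + ψ w
  ψ_surj : ∀ y, ∃ v ∈ Vm p G, ψ v = y
  ψ_conj : ∀ (g : ↥(LC p G)), ∀ v ∈ Vm p G, ∀ i,
    ψ ((g : G) * v * (g : G)⁻¹) i = (ρ g i : Matrix (Fin 2) (Fin 2) (F i)).mulVec (ψ v i)
  fixed : ∀ v ∈ Vm p G, ψ v = 0 → ∀ g ∈ LC p G, g * v * g⁻¹ = v
  sylow_upper : ∀ g : ↥(LC p G), (g : G) ∈ (S : Subgroup G) → ∀ i, ρ g i ∈ Linear.unitriSL 2 (F i)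

namespace Blocks

attribute [instance] Blocks.instF Blocks.instFin Blocks.instChar

variable {S : Sylow p G} (b : Blocks S)

theorem conj_mem_Vm {g v : G} (hv : v ∈ Vm p G) : g * v * g⁻¹ ∈ Vm p G :=
  (inferInstance : (Vm p G).Normal).conj_mem v hv g

theorem ψ_one : b.ψ 1 = 0 := by
  have := b.ψ_mul 1 (one_mem _) 1 (one_mem _)
  rw [one_mul] at this
  exact left_eq_add.mp this

theorem ψ_inv {v : G} (hv : v ∈ Vm p G) : b.ψ v⁻¹ = - b.ψ v := by
  have := b.ψ_mul v hv v⁻¹ (inv_mem hv)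
  rw [mul_inv_cancel, ψ_one] at this
  exact eq_neg_of_add_eq_zero_right this.symm

theorem exists_neg : ∃ g : ↥(LC p G), ∀ i, b.ρ g i = -1 := by
  obtain ⟨g, hg⟩ := b.surj (fun _ => -1)
  exact ⟨g, fun i => congrFun hg i⟩

theorem ψ_eq_zero_iff (hp : p ≠ 2) {v : G} (hv : v ∈ Vm p G) :
    b.ψ v = 0 ↔ v ∈ centralizer (LC p G : Set G) := by
  constructor
  · intro h
    rw [mem_centralizer_iff]
    intro g hg
    exact mul_inv_eq_iff_eq_mul.mp (b.fixed v hv h g hg)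
  · intro h
    obtain ⟨g, hg⟩ := b.exists_neg
    funext i
    have h1 := b.ψ_conj g v hv i
    rw [mem_centralizer_iff.mp h g g.2, mul_inv_cancel_right, hg i,
      Matrix.SpecialLinearGroup.coe_neg, Matrix.SpecialLinearGroup.coe_one, Matrix.neg_mulVec,
      Matrix.one_mulVec] at h1
    funext k
    have h2 := congrFun h1 k
    rw [Pi.neg_apply] at h2
    have h3 : (2 : b.F i) * b.ψ v i k = 0 := by linear_combination h2
    exact (mul_eq_zero.mp h3).resolve_left (natCast_two_ne_zero (p := p) hp)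

theorem mulVec_injective (g h : ↥(LC p G)) (heq : ∀ v ∈ Vm p G,
    b.ψ ((g : G) * v * (g : G)⁻¹) = b.ψ ((h : G) * v * (h : G)⁻¹)) : b.ρ g = b.ρ h := by
  funext i
  refine Subtype.ext (Matrix.ext fun j k => ?_)
  obtain ⟨v, hv, hvy⟩ := b.ψ_surj (Pi.single i (Pi.single k 1))
  have h1 := congrFun (congrFun (heq v hv) i) j
  rw [b.ψ_conj g v hv i, b.ψ_conj h v hv i, hvy, Pi.single_eq_same] at h1
  simpa [Matrix.mulVec_single] using h1

/-- The kernel, as a subgroup of `G`. -/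
def kerIn : Subgroup G := b.ρ.ker.map (LC p G).subtype

theorem mem_kerIn {g : G} : g ∈ b.kerIn ↔
    g ∈ LC p G ∧ ∀ v ∈ Vm p G, b.ψ (g * v * g⁻¹) = b.ψ v := by
  constructor
  · rintro ⟨g, hg, rfl⟩
    refine ⟨g.2, fun v hv => funext fun i => ?_⟩
    change b.ψ ((g : G) * v * (g : G)⁻¹) i = b.ψ v i
    rw [b.ψ_conj g v hv i, MonoidHom.mem_ker.mp hg, Pi.one_apply, Matrix.SpecialLinearGroup.coe_one,
      Matrix.one_mulVec]
  · rintro ⟨hg, h⟩
    refine ⟨⟨g, hg⟩, MonoidHom.mem_ker.mpr ?_, rfl⟩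
    rw [← map_one b.ρ]
    exact b.mulVec_injective _ _ fun v hv => by simpa using h v hv

theorem ψ_eq_iff {v w : G} (hv : v ∈ Vm p G) (hw : w ∈ Vm p G) :
    b.ψ v = b.ψ w ↔ b.ψ (v * w⁻¹) = 0 := by
  rw [b.ψ_mul v hv _ (inv_mem hw), b.ψ_inv hw, ← sub_eq_add_neg, sub_eq_zero]

theorem kerIn_normal (hp : p ≠ 2) : b.kerIn.Normal := by
  refine ⟨fun g hg x => ?_⟩
  obtain ⟨hgL, hg⟩ := b.mem_kerIn.mp hg
  refine b.mem_kerIn.mpr ⟨(inferInstance : (LC p G).Normal).conj_mem g hgL x, fun v hv => ?_⟩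
  set w := x⁻¹ * v * x with hw
  have hwV : w ∈ Vm p G := by simpa [hw] using conj_mem_Vm (g := x⁻¹) hv
  have h1 := (b.ψ_eq_iff (conj_mem_Vm hwV) hwV).mp (hg w hwV)
  have h2 : g * w * g⁻¹ * w⁻¹ ∈ Vm p G := mul_mem (conj_mem_Vm hwV) (inv_mem hwV)
  rw [b.ψ_eq_zero_iff hp h2] at h1
  rw [b.ψ_eq_iff (conj_mem_Vm hv) hv, b.ψ_eq_zero_iff hp (mul_mem (conj_mem_Vm hv) (inv_mem hv))]
  haveI : (centralizer (LC p G : Set G)).Normal := Subgroup.normal_centralizer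
  have h3 := (inferInstance : (centralizer (LC p G : Set G)).Normal).conj_mem _ h1 x
  convert h3 using 1
  simp only [hw]
  group

theorem mem_Cm_of_ρ (h : Setup p S) {g : ↥(LC p G)} (hg : b.ρ g = 1) : (g : G) ∈ Cm p G := by
  haveI := b.kerIn_normal h.odd
  have hCK : Cm p G ≤ b.kerIn := fun x hx => b.mem_kerIn.mpr
    ⟨mem_sup_right hx, fun v hv => by
      rw [← mem_centralizer_iff.mp hx v hv, mul_inv_cancel_right]⟩
  have hpow : ∀ x ∈ b.kerIn, x ^ p ∈ Cm p G := by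
    intro x hx
    obtain ⟨hxL, hx'⟩ := b.mem_kerIn.mp hx
    refine mem_centralizer_iff.mpr fun v hv => ?_
    set d := x * v * x⁻¹ * v⁻¹ with hd
    have hdV : d ∈ Vm p G := mul_mem (conj_mem_Vm hv) (inv_mem hv)
    have hd0 : b.ψ d = 0 := (b.ψ_eq_iff (conj_mem_Vm hv) hv).mp (hx' v hv)
    have hfix : x * d * x⁻¹ = d := b.fixed d hdV hd0 x hxL
    have hn : ∀ n : ℕ, x ^ n * v * (x ^ n)⁻¹ = d ^ n * v := by
      intro n
      induction n with
      | zero => simp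
      | succ n ih =>
        calc x ^ (n + 1) * v * (x ^ (n + 1))⁻¹ = x * (x ^ n * v * (x ^ n)⁻¹) * x⁻¹ := by
              rw [pow_succ']; group
          _ = x * (d ^ n * v) * x⁻¹ := by rw [ih]
          _ = x * d ^ n * x⁻¹ * (x * v * x⁻¹ * v⁻¹ * v) := by group
          _ = (x * d * x⁻¹) ^ n * (d * v) := by rw [conj_pow, hd]
          _ = d ^ (n + 1) * v := by rw [hfix, pow_succ, ← mul_assoc]
    have hp := hn p
    rw [omegaZ_pow hdV, one_mul] at hp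
    exact (mul_inv_eq_iff_eq_mul.mp hp).symm
  obtain ⟨k, hk⟩ : ∃ k : ℕ, (Cm p G).relIndex b.kerIn = p ^ k := by
    have hp : IsPGroup p (b.kerIn.map (QuotientGroup.mk' (Cm p G))) := by
      rintro ⟨_, x, hx, rfl⟩
      refine ⟨1, Subtype.ext ?_⟩
      rw [pow_one, Subgroup.coe_pow, Subgroup.coe_one, ← map_pow, QuotientGroup.mk'_apply,
        QuotientGroup.eq_one_iff]
      exact hpow x hx
    obtain ⟨k, hk⟩ := IsPGroup.iff_card.mp hp
    refine ⟨k, ?_⟩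
    have h1 := Subgroup.relIndex_ker (QuotientGroup.mk' (Cm p G)) (K := b.kerIn)
    rw [QuotientGroup.ker_mk'] at h1
    rw [h1, hk]
  have hle := H31.le_sup_sylow_inf S hCK hk
  have hne : (S : Subgroup G) ⊔ b.kerIn ≠ ⊤ := fun e => h.sup_Cm_ne_top (top_le_iff.mp
    (e ▸ sup_le le_sup_left (hle.trans (sup_le le_sup_right (inf_le_left.trans le_sup_left)))))
  exact (hle.trans (sup_le le_rfl (((h.normal_cases b.kerIn).resolve_left hne).trans h.pCore_le_Cm)))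
    ⟨g, MonoidHom.mem_ker.mpr hg, rfl⟩

theorem ρ_of_Cm {g : ↥(LC p G)} (hg : (g : G) ∈ Cm p G) : b.ρ g = 1 := by
  rw [← map_one b.ρ]
  refine b.mulVec_injective _ _ fun v hv => ?_
  rw [← mem_centralizer_iff.mp hg v hv, mul_inv_cancel_right]
  simp

theorem ρ_surj_Lm (y : ∀ i, Matrix.SpecialLinearGroup (Fin 2) (b.F i)) :
    ∃ g : ↥(LC p G), (g : G) ∈ Lm p G ∧ b.ρ g = y := by
  obtain ⟨g, hg⟩ := b.surj y
  obtain ⟨l, hl, c, hc, hlc⟩ := mem_sup_of_normal_right.mp g.2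
  refine ⟨⟨l, mem_sup_left hl⟩, hl, ?_⟩
  have : g = ⟨l, mem_sup_left hl⟩ * ⟨c, mem_sup_right hc⟩ := Subtype.ext hlc.symm
  rw [← hg, this, map_mul, b.ρ_of_Cm (g := ⟨c, mem_sup_right hc⟩) hc, mul_one]

end Blocks

end Cfsg.Agent.H67.Focal
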