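import Cfsg.Agent.Fusion.TransferInduction

/-!
The Engel condition of a minimal failure of control of transfer, on a chief factor which is moreover
centralised by every normal subgroup not supplementing the Sylow subgroup.
-/

set_option autoImplicit false
set_option linter.unusedSectionVars false
set_option linter.style.haveILetI false

namespace Cfsg.Agent.H67.Focal

open Subgroup Cfsg.Agent.Fusion
open scoped commutatorElement

universe u

variable {𝓦 : Set (∀ (Q : Type u) [Group Q], Subgroup Q)} {p : ℕ} {G : Type u} [Group G]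
  [Finite G] [Fact p.Prime] {S : Sylow p G} (h : MinimalFailure 𝓦 S)
  (hS : (S : Subgroup G) ≠ pCore p G)

include h hS

theorem engel_top {u : G} (hu : u ∈ (S : Subgroup G)) (huQ : u ∉ pCore p G) :
    ∃ U V : Subgroup G, IsChiefFactor U V ∧ U ≤ pCore p G ∧
      (∀ N : Subgroup G, N.Normal → N ≠ ⊤ → (S : Subgroup G) ⊔ N ≠ ⊤ → ⁅U, N⁆ ≤ V) ∧
      ¬ iterCommutator U (zpowers u) (p - 1) ≤ V := by
  by_contra hcon
  simp only [not_exists, not_and, not_not] at hcon
  set T := Tj 𝓦 (S : Subgroup G) with hT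
  set Q := pCore p G with hQ
  haveI hQn : Q.Normal := normal_of_characteristic _
  have hQS : Q ≤ (S : Subgroup G) := Cores.pCore_le_sylow S
  set M := normalizer ((T ⊓ Q : Subgroup G) : Set G) with hM
  have hMne : M ≠ ⊤ := h.M_ne_top hS
  have hSM : (S : Subgroup G) ≤ M := h.le_M_self hS
  obtain ⟨A, _, θ, hA, hθ⟩ := h.exists_theta hS
  have hinv := MinimalFailure.extendOne_invariant hθ hQS ((h.commutator_le_Tj hS hMne hSM).trans inf_le_right)
  set X := commutator G ⊓ Q with hX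
  haveI : X.Normal := inferInstance
  -- a maximal normal subgroup of `X` inside `T`
  obtain ⟨V, ⟨hVn, hVX, hVT⟩, hVmax⟩ := (Set.toFinite
    {N : Subgroup G | N.Normal ∧ N ≤ X ∧ N ≤ T}).exists_maximal ⟨⊥, inferInstance, bot_le, bot_le⟩
  have hVlt : V < X := lt_of_le_of_ne hVX fun he => h.not_pCore_le hS (le_trans he.ge hVT)
  obtain ⟨U, ⟨hUn, hVU, hUX⟩, hUmin⟩ := (Set.toFinite
    {N : Subgroup G | N.Normal ∧ V < N ∧ N ≤ X}).exists_minimal ⟨X, inferInstance, hVlt, le_rfl⟩
  haveI := hUn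
  haveI := hVn
  have hUV : IsChiefFactor U V := ⟨hVU, hUn, hVn, fun N hN h1 h2 => by
    rcases lt_or_eq_of_le h1 with h3 | h3
    · exact Or.inr (le_antisymm h2 (hUmin ⟨hN, h3, h2.trans hUX⟩ h2))
    · exact Or.inl h3.symm⟩
  have hUQ : U ≤ Q := hUX.trans inf_le_right
  have hUp : IsPGroup p U := (Cores.pCore_isPGroup (p := p) (G := G)).to_le hUQ
  have htop : ∀ N : Subgroup G, N.Normal → N ≠ ⊤ → (S : Subgroup G) ⊔ N ≠ ⊤ → ⁅U, N⁆ ≤ V := by
    intro N hN _ hSN
    haveI := hN
    have h1 : ⁅U, N⁆ ≤ T := by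
      refine le_trans ?_ ((h.commutator_le_Tj hS hSN le_sup_left).trans inf_le_right)
      exact commutator_mono hUQ le_sup_right
    have h2 : ⁅U, N⁆ ⊔ V ≤ U := sup_le (commutator_le_left U N) hVU.le
    have h3 : (⁅U, N⁆ ⊔ V : Subgroup G) ≤ T := sup_le h1 hVT
    exact le_sup_left.trans (hVmax ⟨inferInstance, h2.trans hUX, h3⟩ le_sup_right)
  have hu' : EngelProd p U V u := engelProd_of_iterCommutator hUV hUp (hcon U V hUV hUQ htop)
  set 𝒟 : Set G := {d | d ∈ (S : Subgroup G) ∧ EngelProd p U V d} with h𝒟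
  set D := closure 𝒟 with hD
  have hDS : D ≤ (S : Subgroup G) := (closure_le _).mpr fun d hd => hd.1
  have hSD : (S : Subgroup G) ≤ normalizer (D : Set G) := by
    intro s hs
    rw [mem_normalizer_iff_map_conj_eq]
    refine eq_of_le_of_card_ge ?_ (card_map_of_injective (MulAut.conj s).injective).ge
    rw [hD, MonoidHom.map_closure, closure_le]
    rintro _ ⟨d, ⟨hd1, hd2⟩, rfl⟩
    exact subset_closure ⟨mul_mem (mul_mem hs hd1) (inv_mem hs), hd2.conj s⟩
  have hNDne : normalizer (D : Set G) ≠ ⊤ := fun hn => by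
    haveI := normalizer_eq_top_iff.mp hn
    exact huQ (Cores.le_pCore (S.isPGroup'.to_le hDS) (subset_closure ⟨hu, hu'⟩))
  have hNDM : normalizer (D : Set G) ≤ M := h.le_M hS hNDne hSD
  refine hVU.not_ge (hVmax ⟨hUn, hUX, fun x hx => ?_⟩ hVU.le)
  letI : Fintype (G ⧸ M) := Fintype.ofFinite _
  have hxX := hUX hx
  have h1 := prod_coset_conj_eq_one S hSM hQS θ hA hinv hxX.2 hxX.1
  let F : G ⧸ M → G → A := fun b y => extendOne θ (b.out⁻¹ * y * b.out)
  have hconjU : ∀ (g y : G), y ∈ U → g⁻¹ * y * g ∈ U := fun g y hy => by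
    simpa using hUn.conj_mem y hy g⁻¹
  have h2 := prod_eq_fixed (M := M) (U := U) (V := V) (𝒟 := 𝒟) (S.isPGroup'.to_le hDS)
    (fun d hd => hd.2) F (b₀ := ((1 : G) : G ⧸ M)) ?hact ?hlin ?hV ?hfix ?hb₀ hx
  case hact =>
    intro g b y hy
    have hgb : g • b = ((g * b.out : G) : G ⧸ M) := by
      conv_lhs => rw [← QuotientGroup.out_eq' b]
      rfl
    obtain ⟨m, hm⟩ := QuotientGroup.mk_out_eq_mul M (g * b.out)
    change extendOne θ ((g • b).out⁻¹ * y * (g • b).out) =
      extendOne θ (b.out⁻¹ * (g⁻¹ * y * g) * b.out)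
    rw [hgb, hm, ← hinv m m.2 (b.out⁻¹ * (g⁻¹ * y * g) * b.out)
      (hUQ (hconjU _ _ (hconjU g y hy)))]
    congr 1
    group
  case hlin =>
    intro b l hl
    change extendOne θ (b.out⁻¹ * l.prod * b.out) = _
    have e1 : b.out⁻¹ * l.prod * b.out = MulAut.conj b.out⁻¹ l.prod := by simp [MulAut.conj_apply]
    rw [e1, map_list_prod, extendOne_list_prod θ _ (by
      intro z hz
      obtain ⟨y, hy, rfl⟩ := List.mem_map.mp hz
      simpa [MulAut.conj_apply] using hQS (hUQ (hconjU b.out y (hl y hy)))), List.map_map]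
    congr 1
    exact List.map_congr_left fun y _ => by simp [F, MulAut.conj_apply]
  case hV =>
    intro b y hy
    have hy' : b.out⁻¹ * y * b.out ∈ V := by simpa using hVn.conj_mem y hy b.out⁻¹
    change extendOne θ _ = 1
    rw [extendOne_mem θ (Tj_le _ (hVT hy')), hθ]
    exact hVT hy'
  case hb₀ =>
    intro d hd
    change ((d * 1 : G) : G ⧸ M) = ((1 : G) : G ⧸ M)
    rw [QuotientGroup.eq, mul_one, mul_one]
    exact inv_mem (hSM hd.1)
  case hfix =>
    intro b hb
    set g := b.out with hg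
    have hgM : ∀ d ∈ D, g⁻¹ * d * g ∈ M := by
      intro d hd
      have hfixD : D ≤ MulAction.stabilizer G b := (closure_le _).mpr hb
      have h3 : (d : G) • b = b := hfixD hd
      rw [← QuotientGroup.out_eq' b] at h3
      have h4 := (QuotientGroup.eq (s := M)).mp h3.symm
      simpa [mul_assoc, hg] using h4
    -- conjugate `g⁻¹ D g` back into `S` inside `M`
    have hDg : IsPGroup p (D.map (MulAut.conj g⁻¹).toMonoidHom) := (S.isPGroup'.to_le hDS).map _
    obtain ⟨R, hR⟩ := (hDg.comap_subtype (K := M)).exists_le_sylow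
    obtain ⟨m, hm⟩ := MulAction.exists_smul_eq M R (S.subtype hSM)
    have hgm : (m : G) * g⁻¹ ∈ normalizer (D : Set G) := by
      rw [mem_normalizer_iff_map_conj_eq]
      refine eq_of_le_of_card_ge ?_ (card_map_of_injective (MulAut.conj ((m : G) * g⁻¹)).injective).ge
      rw [hD, MonoidHom.map_closure, closure_le]
      rintro _ ⟨d, hd, rfl⟩
      refine subset_closure ⟨?_, hd.2.conj _⟩
      have hdM : g⁻¹ * d * g ∈ M := hgM d (subset_closure hd)
      have h3 : (⟨g⁻¹ * d * g, hdM⟩ : M) ∈ R :=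
        hR ⟨d, subset_closure hd, by simp [MulAut.conj_apply]⟩
      have h4 : m * ⟨g⁻¹ * d * g, hdM⟩ * m⁻¹ ∈ (m • R : Sylow p M) := by
        rw [mem_sylow_smul]
        simpa [mul_assoc] using h3
      rw [hm] at h4
      have h5 : (m : G) * (g⁻¹ * d * g) * (m : G)⁻¹ ∈ (S : Subgroup G) := h4
      simpa [MulAut.conj_apply, mul_assoc] using h5
    have hgM' : g ∈ M := by
      have h6 := mul_mem (inv_mem (hNDM hgm)) m.2
      simpa using h6
    rw [← QuotientGroup.out_eq' b, QuotientGroup.eq, mul_one]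
    exact inv_mem hgM'
  rw [show (∏ b : G ⧸ M, F b x) = 1 from h1] at h2
  obtain ⟨m, hm⟩ := QuotientGroup.mk_out_eq_mul M (1 : G)
  change 1 = extendOne θ (((1 : G) : G ⧸ M).out⁻¹ * x * ((1 : G) : G ⧸ M).out) at h2
  rw [hm, one_mul, hinv m m.2 x hxX.2, extendOne_mem θ (hQS hxX.2), eq_comm, hθ] at h2
  exact h2

end Cfsg.Agent.H67.Focal
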