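import Cfsg.Agent.H67.Focal.Module
import Cfsg.Agent.Fusion.Alperin

/-!
An element inverting the natural modules and normalising `J(S)`.
-/

set_option autoImplicit false
set_option linter.unusedSectionVars false
set_option linter.style.haveILetI false

namespace Cfsg.Agent.H67.Focal

open Subgroup Cfsg.Agent Matrix
open Cfsg.Agent.H31.PushUp (omegaZ Vm omegaZ_le omegaZ_comm mem_omegaZ map_omegaZ omegaZ_pow)
open scoped commutatorElement

universe u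

variable {G : Type u} [Group G] [Finite G] {p : ℕ} [Fact p.Prime]

theorem eq_sq_pow (hp : p ≠ 2) {x : G} (hx : x ^ p = 1) : x = (x * x) ^ ((p + 1) / 2) := by
  obtain ⟨m, hm⟩ := (Fact.out : p.Prime).odd_of_ne_two hp
  rw [← sq, ← pow_mul, hm, show 2 * ((2 * m + 1 + 1) / 2) = 2 * m + 1 + 1 by omega, pow_succ, ← hm,
    hx, one_mul]

/-- `z` inverts the natural modules and normalises `J(S)`. -/
structure ZGood {S : Sylow p G} (b : Blocks S) (z : G) : Prop where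
  mem : z ∈ Lm p G
  neg : ∀ i, b.ρ ⟨z, mem_sup_left mem⟩ i = -1
  norm : z ∈ normalizer (Jm S : Set G)
  sq : ∀ w ∈ Wm S, z * z * w * (z * z)⁻¹ = w

namespace Blocks

variable {S : Sylow p G} (b : Blocks S)

theorem ρ_sylow_pGroup :
    IsPGroup p (((S : Subgroup G).subgroupOf (LC p G)).map b.ρ) :=
  (S.isPGroup'.comap_subtype (K := LC p G)).map _

theorem bottom_zero_of_fixed (g : ↥(LC p G)) (hg : (g : G) ∈ (S : Subgroup G)) {v : G}
    (hv : v ∈ Vm p G) {i : Fin b.r} (hgi : b.ρ g i ≠ 1)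
    (hfix : b.ψ ((g : G) * v * (g : G)⁻¹) i = b.ψ v i) : b.ψ v i 1 = 0 := by
  rw [b.ψ_conj g v hv i] at hfix
  exact (unitri_mulVec_iff (b.sylow_upper g hg i) hgi _).mp hfix

theorem ψ_conj_of_bottom (g : ↥(LC p G)) (hg : (g : G) ∈ (S : Subgroup G)) {v : G} (hv : v ∈ Vm p G)
    (h0 : ∀ i, b.ψ v i 1 = 0) : b.ψ ((g : G) * v * (g : G)⁻¹) = b.ψ v := by
  funext i
  rw [b.ψ_conj g v hv i]
  by_cases h1 : b.ρ g i = 1
  · rw [h1, Matrix.SpecialLinearGroup.coe_one, Matrix.one_mulVec]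
  · exact (unitri_mulVec_iff (b.sylow_upper g hg i) h1 _).mpr (h0 i)

/-- Every element conjugates an element acting as `-1` to another one. -/
theorem ρ_conj_neg (hp : p ≠ 2) (z : ↥(LC p G)) (hz : ∀ i, b.ρ z i = -1) (g : G) :
    b.ρ ⟨g * (z : G) * g⁻¹, (inferInstance : (LC p G).Normal).conj_mem _ z.2 g⟩ = b.ρ z := by
  refine b.mulVec_injective _ _ fun v hv => ?_
  set w := g⁻¹ * v * g with hw
  have hwV : w ∈ Vm p G := by simpa [hw] using conj_mem_Vm (g := g⁻¹) hv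
  have hneg : ∀ x ∈ Vm p G, b.ψ ((z : G) * x * (z : G)⁻¹) = - b.ψ x := fun x hx => funext fun i => by
    rw [b.ψ_conj z x hx i, hz i, Matrix.SpecialLinearGroup.coe_neg, Matrix.SpecialLinearGroup.coe_one,
      Matrix.neg_mulVec, Matrix.one_mulVec]
    rfl
  have h1 : (z : G) * w * (z : G)⁻¹ * w ∈ centralizer (LC p G : Set G) :=
    (b.ψ_eq_zero_iff hp (mul_mem (conj_mem_Vm hwV) hwV)).mp (by
      rw [b.ψ_mul _ (conj_mem_Vm hwV) _ hwV, hneg w hwV, neg_add_cancel])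
  haveI : (centralizer (LC p G : Set G)).Normal := Subgroup.normal_centralizer
  have h2 := (inferInstance : (centralizer (LC p G : Set G)).Normal).conj_mem _ h1 g
  have e : g * ((z : G) * w * (z : G)⁻¹ * w) * g⁻¹ = g * (z : G) * g⁻¹ * v * (g * (z : G) * g⁻¹)⁻¹ * v := by
    rw [hw]; group
  rw [e, ← b.ψ_eq_zero_iff hp (mul_mem (conj_mem_Vm hv) hv), b.ψ_mul _ (conj_mem_Vm hv) _ hv,
    ← eq_neg_iff_add_eq_zero] at h2
  rw [hneg v hv]
  exact h2

end Blocks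

namespace Setup

variable {S : Sylow p G} (h : Setup p S) (b : Blocks S)

include h b

theorem Wm_elem : IsElementaryAbelian p (Wm S) :=
  H31.elem_le (H31.elem_omegaOne_center p _) (h.Wm_le_Wbig b)

theorem exists_zGood : ∃ z, ZGood b z := by
  obtain ⟨y, hyL, hy⟩ := b.ρ_surj_Lm (fun _ => -1)
  set R := (S : Subgroup G) ⊓ Lm p G with hR
  set X := R ⊔ (Cm p G ⊓ Lm p G) with hX
  haveI : (Cm p G ⊓ Lm p G).Normal := inferInstance
  have hXL : X ≤ Lm p G := sup_le inf_le_right inf_le_right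
  set y' : G := (y : G) with hy'
  have hyR : R.map (MulAut.conj y').toMonoidHom ≤ X := by
    rintro _ ⟨r, hr, rfl⟩
    let r' : ↥(LC p G) := ⟨r, mem_sup_left hr.2⟩
    have hρ : b.ρ (r'⁻¹ * (y * r' * y⁻¹)) = 1 := by
      rw [map_mul, map_inv, map_mul, map_mul, map_inv, hy]
      funext i
      simp
    have h1 := b.mem_Cm_of_ρ h hρ
    have h2 : r⁻¹ * (y' * r * y'⁻¹) ∈ Lm p G :=
      mul_mem (inv_mem hr.2) ((inferInstance : (Lm p G).Normal).conj_mem r hr.2 y')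
    have h3 := mul_mem (mem_sup_left hr : r ∈ X) (mem_sup_right ⟨h1, h2⟩ : r⁻¹ * (y' * r * y'⁻¹) ∈ X)
    simpa using h3
  have hRp : IsPGroup p R := S.isPGroup'.to_le inf_le_left
  have hndvd : ¬ p ∣ R.relIndex X := fun hd => by
    refine H31.sylow_relIndex_not_dvd S (Lm p G) ?_
    rw [← inf_relIndex_right]
    exact hd.trans (Dvd.intro _ (relIndex_mul_relIndex R X _ le_sup_left hXL))
  let R₁ : Sylow p X := (hRp.comap_subtype (K := X)).toSylow hndvd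
  obtain ⟨R₂, hR₂⟩ := ((hRp.map (MulAut.conj y').toMonoidHom).comap_subtype (K := X)).exists_le_sylow
  obtain ⟨x, hx⟩ := MulAction.exists_smul_eq X R₂ R₁
  have hxy : (x : G) * y' ∈ normalizer (R : Set G) := by
    refine H31.mem_normalizer_of_map_conj (eq_of_le_of_card_ge ?_
      (card_map_of_injective (MulAut.conj ((x : G) * y')).injective).ge)
    rintro _ ⟨r, hr, rfl⟩
    have h3 : (⟨y' * r * y'⁻¹, hyR ⟨r, hr, rfl⟩⟩ : X) ∈ R₂ := hR₂ ⟨r, hr, rfl⟩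
    have h4 : x * ⟨y' * r * y'⁻¹, hyR ⟨r, hr, rfl⟩⟩ * x⁻¹ ∈ (x • R₂ : Sylow p X) := by
      rw [Cfsg.Agent.Fusion.mem_sylow_smul]
      simpa [mul_assoc] using h3
    rw [hx] at h4
    have h5 : (x : G) * (y' * r * y'⁻¹) * (x : G)⁻¹ ∈ R := h4
    simpa [mul_assoc] using h5
  have hxyJ : (x : G) * y' ∈ normalizer (Jm S : Set G) := by
    have := H31.normalizer_le_normalizer_thompsonSubgroupOf p R hxy
    rwa [hR, H31.thompsonSubgroupOf_eq_of_le (le_inf (Jm_le S) (Jm_le_Lm S)) inf_le_left] at this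
  have hxρ : b.ρ ⟨x, mem_sup_left (hXL x.2)⟩ ∈ ((S : Subgroup G).subgroupOf (LC p G)).map b.ρ := by
    obtain ⟨r, hr, c, hc, hrc⟩ := mem_sup_of_normal_right.mp x.2
    refine ⟨⟨r, mem_sup_left hr.2⟩, hr.1, ?_⟩
    have e : (⟨x, mem_sup_left (hXL x.2)⟩ : ↥(LC p G)) =
        ⟨r, mem_sup_left hr.2⟩ * ⟨c, mem_sup_right hc.1⟩ := Subtype.ext hrc.symm
    rw [e, map_mul, b.ρ_of_Cm (g := ⟨c, mem_sup_right hc.1⟩) hc.1, mul_one]
  obtain ⟨k, hk⟩ := b.ρ_sylow_pGroup ⟨_, hxρ⟩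
  have hk' : b.ρ ⟨x, mem_sup_left (hXL x.2)⟩ ^ p ^ k = 1 := by simpa using congrArg Subtype.val hk
  set z₀ : ↥(LC p G) := (⟨x, mem_sup_left (hXL x.2)⟩ * y) ^ p ^ k with hz₀
  have hcomm : Commute (b.ρ ⟨x, mem_sup_left (hXL x.2)⟩) (b.ρ y) := by
    rw [hy]
    funext i
    simp
  have hodd : Odd (p ^ k) := ((Fact.out : p.Prime).odd_of_ne_two h.odd).pow
  have hneg : ∀ n : ℕ, Odd n → ∀ i, ((fun _ => -1 : ∀ i, Matrix.SpecialLinearGroup (Fin 2) (b.F i)) ^ n) i = -1 :=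
    fun n hn i => by rw [Pi.pow_apply, hn.neg_one_pow]
  have hz₀ρ : b.ρ z₀ = fun _ => -1 := by
    rw [hz₀, map_pow, map_mul, hcomm.mul_pow, hk', one_mul, hy]
    exact funext (hneg _ hodd)
  set z₀' : G := ((x : G) * y') ^ p ^ k with hz₀'
  have hzz : (z₀ : G) = z₀' := by simp [hz₀, hz₀', hy']
  have hmem₀ : z₀' ∈ Lm p G := pow_mem (mul_mem (hXL x.2) hyL) _
  refine ⟨z₀' ^ p, pow_mem hmem₀ _, fun i => ?_, pow_mem (pow_mem hxyJ _) _, fun w hw => ?_⟩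
  · have e : (⟨z₀' ^ p, mem_sup_left (pow_mem hmem₀ _)⟩ : ↥(LC p G)) = z₀ ^ p :=
      Subtype.ext (by rw [SubgroupClass.coe_pow, hzz])
    rw [e, map_pow, hz₀ρ]
    exact hneg p ((Fact.out : p.Prime).odd_of_ne_two h.odd) i
  · set c := z₀' * z₀' with hc
    have hcC : c ∈ Cm p G := by
      have h1 : b.ρ (z₀ * z₀) = 1 := by
        rw [map_mul, hz₀ρ]
        funext i
        simp
      have := b.mem_Cm_of_ρ h h1
      simpa [hzz] using this
    set d := c * w * c⁻¹ * w⁻¹ with hd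
    have hdV : d ∈ Vm p G := h.Lm_trivial_mod b (mul_mem hmem₀ hmem₀) (h.Wm_le_Wbig b hw)
    have hfix : c * d * c⁻¹ = d := by
      rw [← mem_centralizer_iff.mp hcC d hdV, mul_inv_cancel_right]
    have hn : ∀ n : ℕ, c ^ n * w * (c ^ n)⁻¹ = d ^ n * w := by
      intro n
      induction n with
      | zero => simp
      | succ n ih =>
        calc c ^ (n + 1) * w * (c ^ (n + 1))⁻¹ = c * (c ^ n * w * (c ^ n)⁻¹) * c⁻¹ := by
              rw [pow_succ']; group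
          _ = c * (d ^ n * w) * c⁻¹ := by rw [ih]
          _ = c * d ^ n * c⁻¹ * (c * w * c⁻¹ * w⁻¹ * w) := by group
          _ = (c * d * c⁻¹) ^ n * (d * w) := by rw [conj_pow, hd]
          _ = d ^ (n + 1) * w := by rw [hfix, pow_succ, ← mul_assoc]
    have hp' := hn p
    rw [omegaZ_pow hdV, one_mul, hc, (Commute.refl z₀').mul_pow] at hp'
    exact hp'

end Setup

namespace ZGood

variable {S : Sylow p G} {b : Blocks S} {z : G} (hz : ZGood b z) (h : Setup p S)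

include hz h

theorem sq_apply {w : G} (hw : w ∈ Wm S) : z * (z * w * z⁻¹) * z⁻¹ = w := by
  have := hz.sq w hw
  simpa [mul_assoc] using this

theorem conj_mem_Wm {w : G} (hw : w ∈ Wm S) (g : G) : g * w * g⁻¹ ∈ Wm S :=
  (h.Wm_normal b).conj_mem w hw g

/-- Every element of `W` has a square which is a product of a fixed and an inverted element. -/
theorem split {w : G} (hw : w ∈ Wm S) :
    ∃ f v : G, f ∈ Wm S ∧ z * f * z⁻¹ = f ∧ v ∈ Vm p G ∧ z * v * z⁻¹ = v⁻¹ ∧ w * w = f * v ∧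
      f = w * (z * w * z⁻¹) := by
  have he := h.Wm_elem b
  have hzw := hz.conj_mem_Wm h hw z
  refine ⟨w * (z * w * z⁻¹), w * (z * w * z⁻¹)⁻¹, mul_mem hw hzw, ?_, ?_, ?_, ?_, rfl⟩
  · calc z * (w * (z * w * z⁻¹)) * z⁻¹ = z * w * z⁻¹ * (z * (z * w * z⁻¹) * z⁻¹) := by group
      _ = z * w * z⁻¹ * w := by rw [hz.sq_apply h hw]
      _ = w * (z * w * z⁻¹) := H31.elem_comm he hzw hw
  · have h1 := inv_mem (h.Lm_trivial_mod b hz.mem (h.Wm_le_Wbig b hw))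
    have e : (z * w * z⁻¹ * w⁻¹)⁻¹ = w * (z * w * z⁻¹)⁻¹ := by group
    rwa [e] at h1
  · calc z * (w * (z * w * z⁻¹)⁻¹) * z⁻¹ = z * w * z⁻¹ * (z * (z * w * z⁻¹) * z⁻¹)⁻¹ := by group
      _ = z * w * z⁻¹ * w⁻¹ := by rw [hz.sq_apply h hw]
      _ = (w * (z * w * z⁻¹)⁻¹)⁻¹ := by group
  · calc w * w = w * (z * w * z⁻¹ * (z * w * z⁻¹)⁻¹) * w := by group
      _ = w * (z * w * z⁻¹) * ((z * w * z⁻¹)⁻¹ * w) := by group
      _ = w * (z * w * z⁻¹) * (w * (z * w * z⁻¹)⁻¹) := by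
          rw [H31.elem_comm he (inv_mem hzw) hw]

/-- An element of `V` inverted by `z` is fixed by whatever fixes its coordinates. -/
theorem conj_eq_of_inv {v : G} (hv : v ∈ Vm p G) (hinv : z * v * z⁻¹ = v⁻¹) {e : G}
    (he : b.ψ (e * v * e⁻¹) = b.ψ v) : e * v * e⁻¹ = v := by
  set zl : ↥(LC p G) := ⟨z, mem_sup_left hz.mem⟩ with hzl
  set d := e * v * e⁻¹ * v⁻¹ with hd
  have hdV : d ∈ Vm p G := mul_mem (Blocks.conj_mem_Vm hv) (inv_mem hv)
  have hd0 : b.ψ d = 0 := (b.ψ_eq_iff (Blocks.conj_mem_Vm hv) hv).mp he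
  have hzd : z * d * z⁻¹ = d := b.fixed d hdV hd0 z (mem_sup_left hz.mem)
  have hρ := b.ρ_conj_neg h.odd zl hz.neg e
  set c : ↥(LC p G) := zl⁻¹ * ⟨e * z * e⁻¹, (inferInstance : (LC p G).Normal).conj_mem _ zl.2 e⟩ with hc
  have hcC : (c : G) ∈ Cm p G := b.mem_Cm_of_ρ h (by rw [hc, map_mul, map_inv]; simp only [hzl] at hρ ⊢; rw [hρ, inv_mul_cancel])
  have hcv : ∀ x ∈ Vm p G, (c : G) * x * (c : G)⁻¹ = x := fun x hx => by
    rw [← mem_centralizer_iff.mp hcC x hx, mul_inv_cancel_right]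
  have h1 : z * (e * v * e⁻¹) * z⁻¹ = (e * v * e⁻¹)⁻¹ := by
    have h2 := hcv (e * v * e⁻¹) (Blocks.conj_mem_Vm hv)
    calc z * (e * v * e⁻¹) * z⁻¹ = z * ((c : G) * (e * v * e⁻¹) * (c : G)⁻¹) * z⁻¹ := by rw [h2]
      _ = e * (z * v * z⁻¹) * e⁻¹ := by
          simp only [hc, hzl, Subgroup.coe_mul, Subgroup.coe_inv]; group
      _ = (e * v * e⁻¹)⁻¹ := by rw [hinv]; group
  have h3 : e * v * e⁻¹ = d * v := by rw [hd]; group
  rw [h3] at h1 ⊢
  have h4 : d * v⁻¹ = (d * v)⁻¹ := by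
    rw [← h1]
    calc d * v⁻¹ = z * d * z⁻¹ * (z * v * z⁻¹) := by rw [hzd, hinv]
      _ = z * (d * v) * z⁻¹ := by group
  rw [_root_.mul_inv_rev, ← H31.elem_comm Vm_elem (inv_mem hdV) (inv_mem hv)] at h4
  have h5 : d * d = 1 := by
    have := mul_right_cancel h4
    exact eq_inv_iff_mul_eq_one.mp this
  have h6 := eq_sq_pow h.odd (omegaZ_pow hdV)
  rw [h5, one_pow] at h6
  rw [h6, one_mul]

end ZGood

end Cfsg.Agent.H67.Focal
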