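import Cfsg.Agent.H67.Focal.Blocks

/-!
The normal subgroup generated by `Ω₁(Z(J(S)))` modulo the module.
-/

set_option autoImplicit false
set_option linter.unusedSectionVars false
set_option linter.style.haveILetI false

namespace Cfsg.Agent.H67.Focal

open Subgroup Cfsg.Agent Matrix
open Cfsg.Agent.H31.PushUp (omegaZ Vm omegaZ_le omegaZ_comm mem_omegaZ map_omegaZ omegaZ_pow)
open scoped commutatorElement

universe u

variable {G : Type u} [Group G] [Finite G] {p : ℕ} [Fact p.Prime]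

/-- `Ω₁(Z(J(O_p)))`. -/
abbrev Wbig (p : ℕ) (G : Type u) [Group G] : Subgroup G :=
  omegaZ p (thompsonSubgroupOf p (Cfsg.pCore p G))

/-- The module enlarged by `Ω₁(Z(J(S)))`. -/
abbrev Wm (S : Sylow p G) : Subgroup G := Vm p G ⊔ Zm S

/-- The part of `O_p` centralising the enlarged module. -/
abbrev Qm (S : Sylow p G) : Subgroup G := Cfsg.pCore p G ⊓ centralizer (Wm S : Set G)

theorem elem_sup {A B : Subgroup G} (hA : IsElementaryAbelian p A) (hB : IsElementaryAbelian p B)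
    (hAB : ∀ a ∈ A, ∀ b ∈ B, a * b = b * a) : IsElementaryAbelian p (A ⊔ B : Subgroup G) := by
  rw [sup_eq_closure]
  refine H31.elem_closure ?_ ?_
  · rintro x (hx | hx) y (hy | hy)
    · exact H31.elem_comm hA hx hy
    · exact hAB x hx y hy
    · exact (hAB y hy x hx).symm
    · exact H31.elem_comm hB hx hy
  · rintro x (hx | hx)
    · exact hA.2 x hx
    · exact hB.2 x hx

theorem Vm_elem : IsElementaryAbelian p (Vm p G) := H31.elem_omegaOne_center p _

theorem inf_centralizer_le_maxIn {S : Sylow p G} {A X : Subgroup G}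
    (hA : H31.MaxIn p (S : Subgroup G) A) (hX : IsElementaryAbelian p X) (hXS : X ≤ (S : Subgroup G)) :
    X ⊓ centralizer (A : Set G) ≤ A := by
  have hel := elem_sup hA.2.1 (H31.elem_le hX (inf_le_left : X ⊓ centralizer (A : Set G) ≤ X))
    fun a ha x hx => mem_centralizer_iff.mp hx.2 a ha
  have := eq_of_le_of_card_ge le_sup_left (hA.2.2 _ (sup_le hA.1 (inf_le_left.trans hXS)) hel)
  exact le_sup_right.trans this.ge

theorem Vm_le_sylow (S : Sylow p G) : Vm p G ≤ (S : Subgroup G) :=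
  (omegaZ_le _).trans (Cores.pCore_le_sylow S)

namespace Blocks

variable {S : Sylow p G} (b : Blocks S)

theorem maxIn_le_LC {A : Subgroup G} (hA : H31.MaxIn p (S : Subgroup G) A) : A ≤ LC p G :=
  ((H31.le_thompsonSubgroupOf hA).trans (Jm_le_Lm S)).trans le_sup_left

include b in
/-- There is no over-offender on the module. -/
theorem card_le (h : Setup p S) {A : Subgroup G} (hAS : A ≤ (S : Subgroup G)) (hAL : A ≤ LC p G) :
    Nat.card A * Nat.card (Vm p G ⊓ centralizer (A : Set G) : Subgroup G) ≤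
      Nat.card (Vm p G) * Nat.card (A ⊓ Cm p G : Subgroup G) := by
  classical
  set f : ↥A →* ∀ i, Matrix.SpecialLinearGroup (Fin 2) (b.F i) := b.ρ.comp (inclusion hAL) with hf
  set I : ∀ i, Subgroup (Matrix.SpecialLinearGroup (Fin 2) (b.F i)) :=
    fun i => ((Pi.evalMonoidHom _ i).comp f).range with hI
  have hker : Nat.card f.ker = Nat.card (A ⊓ Cm p G : Subgroup G) := by
    have : f.ker = (A ⊓ Cm p G).subgroupOf A := by
      ext x
      simp only [MonoidHom.mem_ker, mem_subgroupOf, mem_inf]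
      constructor
      · intro hx
        exact ⟨x.2, b.mem_Cm_of_ρ h hx⟩
      · intro hx
        exact b.ρ_of_Cm hx.2
    rw [this]
    exact Nat.card_congr (subgroupOfEquivOfLe inf_le_left).toEquiv
  have hA : Nat.card A ≤ Nat.card (A ⊓ Cm p G : Subgroup G) * ∏ i, Nat.card (I i) := by
    rw [← Nat.card_pi, ← hker, mul_comm, Subgroup.card_eq_card_quotient_mul_card_subgroup f.ker]
    refine Nat.mul_le_mul_right _ ?_
    rw [Nat.card_congr (QuotientGroup.quotientKerEquivRange f).toEquiv]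
    refine Nat.card_le_card_of_injective (fun y i => ⟨y.1 i, ?_⟩) fun y z hyz => ?_
    · obtain ⟨a, ha⟩ := y.2
      exact ⟨a, congrFun ha i⟩
    · exact Subtype.ext (funext fun i => congrArg Subtype.val (congrFun hyz i))
  set T := {i : Fin b.r // I i ≠ ⊥}
  let θ : ↥(Vm p G) →* Multiplicative (∀ t : T, b.F t) :=
    MonoidHom.mk' (fun v => Multiplicative.ofAdd fun t : T => b.ψ v t 1) fun v w => by
      rw [← ofAdd_add]
      congr 1
      funext t
      rw [Subgroup.coe_mul, b.ψ_mul v v.2 w w.2]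
      rfl
  have hθs : Function.Surjective θ := by
    intro y
    obtain ⟨v, hv, hvy⟩ := b.ψ_surj fun i => if hi : I i ≠ ⊥ then ![0, Multiplicative.toAdd y ⟨i, hi⟩] else 0
    refine ⟨⟨v, hv⟩, ?_⟩
    show Multiplicative.ofAdd _ = y
    rw [← ofAdd_toAdd y]
    congr 1
    funext t
    rw [show b.ψ v (t : Fin b.r) = _ from congrFun hvy _, dif_pos t.2]
    rfl
  have hθk : (Vm p G ⊓ centralizer (A : Set G) : Subgroup G).subgroupOf (Vm p G) ≤ θ.ker := by
    intro v hv
    rw [mem_subgroupOf] at hv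
    rw [MonoidHom.mem_ker]
    show Multiplicative.ofAdd _ = Multiplicative.ofAdd 0
    congr 1
    funext t
    obtain ⟨u, ⟨a, ha⟩, hu⟩ := (I t).bot_or_exists_ne_one.resolve_left t.2
    have h1 := b.ψ_conj (inclusion hAL a) v hv.1 t
    have hc : ((inclusion hAL a : ↥(LC p G)) : G) * v * ((inclusion hAL a : ↥(LC p G)) : G)⁻¹ = v := by
      have := mem_centralizer_iff.mp hv.2 a a.2
      simp only [coe_inclusion]
      rw [this, mul_inv_cancel_right]
    rw [hc] at h1
    have hau : b.ρ (inclusion hAL a) t = u := ha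
    rw [hau] at h1
    exact (unitri_mulVec_iff (hau ▸ b.sylow_upper _ (hAS a.2) t) hu _).mp h1.symm
  have hV : Nat.card (Vm p G ⊓ centralizer (A : Set G) : Subgroup G) * ∏ i, Nat.card (I i) ≤
      Nat.card (Vm p G) := by
    rw [Subgroup.card_eq_card_quotient_mul_card_subgroup θ.ker, mul_comm]
    refine Nat.mul_le_mul ?_ ?_
    · rw [Nat.card_congr (QuotientGroup.quotientKerEquivOfSurjective θ hθs).toEquiv]
      change ∏ i, Nat.card (I i) ≤ Nat.card (∀ t : T, b.F t)
      rw [Nat.card_pi, ← Finset.prod_subtype (Finset.univ.filter fun i => I i ≠ ⊥) (by simp)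
        (fun i => Nat.card (b.F i)), ← Finset.prod_subset (Finset.subset_univ
        (Finset.univ.filter fun i => I i ≠ ⊥)) (fun i _ hi => by
          simp only [Finset.mem_filter, Finset.mem_univ, true_and, not_not] at hi
          rw [hi, card_bot])]
      refine Finset.prod_le_prod' fun i _ => ?_
      rw [Nat.card_eq_fintype_card (α := b.F i)]
      refine card_pSubgroup_le (p := p) ?_
      exact (Linear.unitriSylowSL 2 (b.F i) p).isPGroup'.to_le (by
        rintro _ ⟨a, rfl⟩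
        exact b.sylow_upper _ (hAS a.2) i)
    · rw [← Nat.card_congr (subgroupOfEquivOfLe (inf_le_left :
        Vm p G ⊓ centralizer (A : Set G) ≤ Vm p G)).toEquiv]
      exact Subgroup.card_le_of_le hθk
  calc Nat.card A * Nat.card (Vm p G ⊓ centralizer (A : Set G) : Subgroup G)
      ≤ Nat.card (A ⊓ Cm p G : Subgroup G) * (∏ i, Nat.card (I i)) *
          Nat.card (Vm p G ⊓ centralizer (A : Set G) : Subgroup G) := Nat.mul_le_mul_right _ hA
    _ ≤ Nat.card (Vm p G) * Nat.card (A ⊓ Cm p G : Subgroup G) := by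
        rw [mul_assoc, mul_comm (∏ i, Nat.card (I i)), mul_comm (Nat.card (Vm p G))]
        exact Nat.mul_le_mul_left _ hV

end Blocks

namespace Setup

variable {S : Sylow p G} (h : Setup p S) (b : Blocks S)

include h b

theorem maxIn_exchange {A : Subgroup G} (hA : H31.MaxIn p (S : Subgroup G) A) :
    H31.MaxIn p (S : Subgroup G) ((A ⊓ Cfsg.pCore p G) ⊔ Vm p G) ∧
    Nat.card A * Nat.card (Vm p G ⊓ centralizer (A : Set G) : Subgroup G) =
      Nat.card (Vm p G) * Nat.card (A ⊓ Cfsg.pCore p G : Subgroup G) := by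
  have hQS := Cores.pCore_le_sylow (p := p) S
  have hAC : A ⊓ Cm p G = A ⊓ Cfsg.pCore p G :=
    le_antisymm (le_inf inf_le_left (le_of_le_of_eq (inf_le_inf_right _ hA.1) h.sylow_inf_Cm))
      (inf_le_inf_left _ h.pCore_le_Cm)
  have hel := elem_sup (H31.elem_le hA.2.1 (inf_le_left : A ⊓ Cfsg.pCore p G ≤ A)) Vm_elem
    fun a ha v hv => omegaZ_comm hv ha.2
  have hle := hA.2.2 _ (sup_le (inf_le_left.trans hA.1) (Vm_le_sylow S)) hel
  have hcard := Cores.card_sup_mul_card_inf (A ⊓ Cfsg.pCore p G) (Vm p G)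
  have hmono : Nat.card (A ⊓ Cfsg.pCore p G ⊓ Vm p G : Subgroup G) ≤
      Nat.card (Vm p G ⊓ centralizer (A : Set G) : Subgroup G) :=
    Subgroup.card_le_of_le fun x hx =>
      ⟨hx.2, mem_centralizer_iff.mpr fun a ha => H31.elem_comm hA.2.1 ha hx.1.1⟩
  have hb := b.card_le h hA.1 (Blocks.maxIn_le_LC hA)
  rw [hAC] at hb
  have hpos : 0 < Nat.card (Vm p G ⊓ centralizer (A : Set G) : Subgroup G) := Nat.card_pos
  have key : Nat.card A ≤ Nat.card ↥((A ⊓ Cfsg.pCore p G) ⊔ Vm p G) := by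
    refine Nat.le_of_mul_le_mul_right ?_ hpos
    refine hb.trans ?_
    rw [mul_comm (Nat.card (Vm p G)), ← hcard]
    exact Nat.mul_le_mul_left _ hmono
  refine ⟨⟨sup_le (inf_le_left.trans hA.1) (Vm_le_sylow S), hel,
    fun B hB hBe => (hA.2.2 B hB hBe).trans key⟩, le_antisymm hb ?_⟩
  rw [mul_comm (Nat.card (Vm p G)), ← hcard]
  exact Nat.mul_le_mul hle hmono

theorem exchange_le_JQ {A : Subgroup G} (hA : H31.MaxIn p (S : Subgroup G) A) :
    (A ⊓ Cfsg.pCore p G) ⊔ Vm p G ≤ thompsonSubgroupOf p (Cfsg.pCore p G) := by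
  obtain ⟨⟨-, h2, h3⟩, -⟩ := h.maxIn_exchange b hA
  exact H31.le_thompsonSubgroupOf ⟨sup_le inf_le_right (omegaZ_le _), h2,
    fun B hB hBe => h3 B (hB.trans (Cores.pCore_le_sylow S)) hBe⟩

theorem Zm_le_pCore : Zm S ≤ Cfsg.pCore p G := by
  obtain ⟨A, hA⟩ := H31.exists_maxIn p (S : Subgroup G)
  exact (Zm_le_maxIn S (h.maxIn_exchange b hA).1).trans (sup_le inf_le_right (omegaZ_le _))

theorem JQ_le_Jm : thompsonSubgroupOf p (Cfsg.pCore p G) ≤ Jm S := by
  obtain ⟨A, hA⟩ := H31.exists_maxIn p (S : Subgroup G)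
  obtain ⟨hA', -⟩ := h.maxIn_exchange b hA
  rw [H31.thompsonSubgroupOf_eq]
  refine sSup_le fun B hB => H31.le_thompsonSubgroupOf ⟨hB.1.trans (Cores.pCore_le_sylow S), hB.2.1,
    fun B' hB' hBe' => (hA'.2.2 B' hB' hBe').trans (hB.2.2 _ (sup_le inf_le_right (omegaZ_le _)) hA'.2.1)⟩

theorem Wm_le_Wbig : Wm S ≤ Wbig p G := by
  obtain ⟨A, hA⟩ := H31.exists_maxIn p (S : Subgroup G)
  have hJQ := H31.thompsonSubgroupOf_le p (Cfsg.pCore p G)
  refine sup_le (fun v hv => mem_omegaZ (h.exchange_le_JQ b hA (mem_sup_right hv))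
    (fun x hx => omegaZ_comm hv (hJQ hx)) (omegaZ_pow hv)) fun z hz => ?_
  exact mem_omegaZ (h.exchange_le_JQ b hA (Zm_le_maxIn S (h.maxIn_exchange b hA).1 hz))
    (fun x hx => omegaZ_comm hz (h.JQ_le_Jm b hx)) (omegaZ_pow hz)

theorem Wbig_le : Wbig p G ≤ (S : Subgroup G) :=
  ((omegaZ_le _).trans (H31.thompsonSubgroupOf_le p _)).trans (Cores.pCore_le_sylow S)

theorem Wbig_eq {A : Subgroup G} (hA : H31.MaxIn p (S : Subgroup G) A) :
    Wbig p G ≤ Vm p G ⊔ (Wbig p G ⊓ centralizer (A : Set G)) := by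
  set X := Wbig p G with hX
  haveI : (thompsonSubgroupOf p (Cfsg.pCore p G)).Normal := by
    rw [← normalizer_eq_top_iff, eq_top_iff]
    refine le_trans ?_ (H31.normalizer_le_normalizer_thompsonSubgroupOf p _)
    rw [normalizer_eq_top_iff.mpr (normal_of_characteristic _)]
  haveI hXn : X.Normal := H31.PushUp.omegaZ_normal _
  have hXe : IsElementaryAbelian p X := H31.elem_omegaOne_center p _
  have hel := elem_sup (H31.elem_le hA.2.1 (inf_le_left : A ⊓ Cfsg.pCore p G ≤ A)) hXe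
    fun a ha x hx => omegaZ_comm hx (h.exchange_le_JQ b hA (mem_sup_left ha))
  have hle := hA.2.2 _ (sup_le (inf_le_left.trans hA.1) (h.Wbig_le b)) hel
  have hcard := Cores.card_sup_mul_card_inf (A ⊓ Cfsg.pCore p G) X
  have hmono : Nat.card (A ⊓ Cfsg.pCore p G ⊓ X : Subgroup G) ≤
      Nat.card (X ⊓ centralizer (A : Set G) : Subgroup G) :=
    Subgroup.card_le_of_le fun x hx =>
      ⟨hx.2, mem_centralizer_iff.mpr fun a ha => H31.elem_comm hA.2.1 ha hx.1.1⟩
  obtain ⟨-, heq⟩ := h.maxIn_exchange b hA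
  set CX := X ⊓ centralizer (A : Set G) with hCX
  have hVX : Vm p G ≤ X := le_sup_left.trans (h.Wm_le_Wbig b)
  have hcard2 := Cores.card_sup_mul_card_inf CX (Vm p G)
  rw [sup_comm]
  refine (eq_of_le_of_card_ge (sup_le inf_le_left hVX) ?_).ge
  have hCV : Nat.card (CX ⊓ Vm p G : Subgroup G) ≤
      Nat.card (Vm p G ⊓ centralizer (A : Set G) : Subgroup G) :=
    Subgroup.card_le_of_le fun x hx => ⟨hx.2, hx.1.2⟩
  have h1 : Nat.card (A ⊓ Cfsg.pCore p G : Subgroup G) * Nat.card X ≤ Nat.card A * Nat.card CX := by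
    rw [← hcard]
    exact Nat.mul_le_mul hle hmono
  have hpos : 0 < Nat.card (A ⊓ Cfsg.pCore p G : Subgroup G) *
      Nat.card (CX ⊓ Vm p G : Subgroup G) := Nat.mul_pos Nat.card_pos Nat.card_pos
  refine Nat.le_of_mul_le_mul_left ?_ hpos
  calc Nat.card (A ⊓ Cfsg.pCore p G : Subgroup G) * Nat.card (CX ⊓ Vm p G : Subgroup G) * Nat.card X
      ≤ Nat.card A * Nat.card CX * Nat.card (Vm p G ⊓ centralizer (A : Set G) : Subgroup G) := by
        rw [mul_right_comm]
        exact Nat.mul_le_mul h1 hCV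
    _ = Nat.card (A ⊓ Cfsg.pCore p G : Subgroup G) * (Nat.card CX * Nat.card (Vm p G)) := by
        rw [mul_right_comm, heq]; ring
    _ = _ := by rw [← hcard2]; ring

theorem Lm_trivial_mod {l w : G} (hl : l ∈ Lm p G) (hw : w ∈ Wbig p G) :
    l * w * l⁻¹ * w⁻¹ ∈ Vm p G := by
  haveI : (thompsonSubgroupOf p (Cfsg.pCore p G)).Normal := by
    rw [← normalizer_eq_top_iff, eq_top_iff]
    refine le_trans ?_ (H31.normalizer_le_normalizer_thompsonSubgroupOf p _)
    rw [normalizer_eq_top_iff.mpr (normal_of_characteristic _)]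
  haveI : (Wbig p G).Normal := H31.PushUp.omegaZ_normal _
  set π := QuotientGroup.mk' (Vm p G)
  haveI : ((Wbig p G).map π).Normal :=
    Subgroup.Normal.map inferInstance π (QuotientGroup.mk'_surjective _)
  set K := (centralizer (((Wbig p G).map π : Subgroup _) : Set (G ⧸ Vm p G))).comap π with hK
  have hmem : ∀ g : G, g ∈ K ↔ ∀ w ∈ Wbig p G, g * w * g⁻¹ * w⁻¹ ∈ Vm p G := by
    intro g
    simp only [hK, mem_comap, mem_centralizer_iff, SetLike.mem_coe, mem_map, forall_exists_index, and_imp,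
      forall_apply_eq_imp_iff₂, π, QuotientGroup.mk'_apply]
    refine forall₂_congr fun w _ => ?_
    rw [eq_comm, ← QuotientGroup.mk_mul, ← QuotientGroup.mk_mul, ← mul_inv_eq_one, ← QuotientGroup.mk_inv,
      ← QuotientGroup.mk_mul, QuotientGroup.eq_one_iff]
    group
  refine (hmem l).mp (conj_le_of_Lm S (X := K) ?_ hl) w hw
  rw [Jm, H31.thompsonSubgroupOf_eq]
  refine sSup_le fun A hA a ha => (hmem a).mpr fun w hw => ?_
  obtain ⟨v, hv, c, hc, rfl⟩ := mem_sup_of_normal_left.mp (h.Wbig_eq b hA hw)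
  have hac : a * c = c * a := mem_centralizer_iff.mp hc.2 a ha
  have : a * (v * c) * a⁻¹ * (v * c)⁻¹ = a * v * a⁻¹ * v⁻¹ := by
    calc a * (v * c) * a⁻¹ * (v * c)⁻¹ = a * v * a⁻¹ * (a * c * a⁻¹ * c⁻¹) * v⁻¹ := by group
      _ = a * v * a⁻¹ * v⁻¹ := by rw [hac]; group
  rw [this]
  exact mul_mem (Blocks.conj_mem_Vm hv) (inv_mem hv)

theorem Wm_normal : (Wm S).Normal := by
  rw [← normalizer_eq_top_iff, eq_top_iff, ← h.sup_Lm]
  refine sup_le ?_ (le_normalizer_iff.mpr fun l hl w hw => ?_)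
  · intro s hs
    refine H31.mem_normalizer_of_map_conj ?_
    rw [Wm, Subgroup.map_sup, H31.map_conj_eq_of_mem_normalizer
      (normalizer_Jm_le_Zm S (sylow_le_normalizer_Jm S hs)),
      H31.map_conj_eq_of_mem_normalizer (by rw [normalizer_eq_top_iff.mpr inferInstance]; trivial)]
  · have := Subgroup.mul_mem _ (mem_sup_left (h.Lm_trivial_mod b hl (h.Wm_le_Wbig b hw)) :
      l * w * l⁻¹ * w⁻¹ ∈ Wm S) hw
    rwa [inv_mul_cancel_right] at this

theorem Qm_le_Bm : Qm S ≤ Bm S := fun _ hx =>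
  ⟨Cores.pCore_le_sylow S hx.1, centralizer_le (show (Zm S : Set G) ⊆ (Wm S : Set G) from
    fun _ hz => mem_sup_right hz) hx.2⟩

theorem Bm_inf_Cm : Bm S ⊓ Cm p G = Qm S := by
  refine le_antisymm (fun x hx => ⟨h.sylow_inf_Cm.le ⟨hx.1.1, hx.2⟩, ?_⟩)
    (le_inf (h.Qm_le_Bm b) (inf_le_left.trans h.pCore_le_Cm))
  show x ∈ centralizer ((Wm S : Subgroup G) : Set G)
  rw [Wm, sup_eq_closure, centralizer_closure]
  exact mem_centralizer_iff.mpr fun w hw => hw.elim
    (fun hv => mem_centralizer_iff.mp hx.2 w hv) (fun hz => mem_centralizer_iff.mp hx.1.2 w hz)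

end Setup

end Cfsg.Agent.H67.Focal
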