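import Cfsg.Agent.H67.Focal.Baumann

/-!
The Baumann subgroup induces exactly the product of the root groups.
-/

set_option autoImplicit false
set_option linter.unusedSectionVars false
set_option linter.style.haveILetI false

namespace Cfsg.Agent.H67.Focal

open Subgroup Cfsg.Agent Matrix
open Cfsg.Agent.H31.PushUp (omegaZ Vm omegaZ_le omegaZ_comm mem_omegaZ map_omegaZ omegaZ_pow)
open scoped commutatorElement

universe u

variable {G : Type u} [Group G] [Finite G] {p : ℕ} [Fact p.Prime]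

theorem isPGroup_pi_unitri {r : ℕ} (F : Fin r → Type) [∀ i, Field (F i)] [∀ i, Fintype (F i)]
    [∀ i, CharP (F i) p] : IsPGroup p (Subgroup.pi Set.univ fun i => Linear.unitriSL 2 (F i)) := by
  have hc : ∀ i, ∀ x : Matrix.SpecialLinearGroup (Fin 2) (F i), x ∈ Linear.unitriSL 2 (F i) → x ^ p = 1 := by
    intro i x hx
    obtain ⟨a, b, c⟩ := Linear.unitriSL_two_eq.mp hx
    set x01 := (x : Matrix (Fin 2) (Fin 2) (F i)) 0 1 with hx01
    have hn : ∀ n : ℕ, (x ^ n) ∈ Linear.unitriSL 2 (F i) ∧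
        ((x ^ n : Matrix.SpecialLinearGroup (Fin 2) (F i)) : Matrix (Fin 2) (Fin 2) (F i)) 0 1 = n * x01 := by
      intro n
      induction n with
      | zero => exact ⟨one_mem _, by simp⟩
      | succ n ih =>
        refine ⟨pow_mem hx _, ?_⟩
        rw [pow_succ, ← H31.PushUp.unitri_pow _ ih.1 x hx, ih.2, Nat.cast_succ, add_mul, one_mul, hx01]
    obtain ⟨a', b', c'⟩ := Linear.unitriSL_two_eq.mp (hn p).1
    refine Linear.SL_ext_two (by simp [b']) ?_ (by simp [a']) (by simp [c'])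
    rw [(hn p).2, CharP.cast_eq_zero, zero_mul]
    simp
  rintro ⟨x, hx⟩
  exact ⟨1, Subtype.ext (funext fun i => by
    rw [pow_one, Subgroup.coe_pow, Pi.pow_apply]
    exact hc i (x i) (hx i trivial))⟩

namespace Blocks

variable {S : Sylow p G} (b : Blocks S)

/-- The root elements come from `S ∩ L`. -/
theorem exists_root (y : ∀ i, Matrix.SpecialLinearGroup (Fin 2) (b.F i))
    (hy : ∀ i, y i ∈ Linear.unitriSL 2 (b.F i)) :
    ∃ g : ↥(LC p G), (g : G) ∈ (S : Subgroup G) ⊓ Lm p G ∧ b.ρ g = y := by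
  set P := Subgroup.pi Set.univ fun i => Linear.unitriSL 2 (b.F i) with hP
  set X : Subgroup G := Lm p G ⊓ (P.comap b.ρ).map (LC p G).subtype with hX
  set R : Subgroup X := ((S : Subgroup G) ⊓ Lm p G).subgroupOf X with hR
  have hRX : (S : Subgroup G) ⊓ Lm p G ≤ X := fun x hx =>
    ⟨hx.2, ⟨x, mem_sup_left hx.2⟩, fun i _ => b.sylow_upper _ hx.1 i, rfl⟩
  have hXLC : X ≤ LC p G := inf_le_left.trans le_sup_left
  let f : X →* P := (b.ρ.comp (inclusion hXLC)).codRestrict P fun x => by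
    obtain ⟨y, hy, hyx⟩ := x.2.2
    have e : y = inclusion hXLC x := Subtype.ext hyx
    show b.ρ (inclusion hXLC x) ∈ P
    rw [← e]; exact hy
  have hf : Function.Surjective f := by
    rintro ⟨w, hw⟩
    obtain ⟨g, hgL, hg⟩ := b.ρ_surj_Lm w
    exact ⟨⟨g, hgL, g, (show b.ρ g ∈ P by rw [hg]; exact hw), rfl⟩, Subtype.ext hg⟩
  have hRi : ¬ p ∣ R.index := fun hd => by
    refine H31.sylow_relIndex_not_dvd S (Lm p G) ?_
    rw [← inf_relIndex_right]
    exact Dvd.dvd.trans (show p ∣ ((S : Subgroup G) ⊓ Lm p G).relIndex X from hd)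
      (Dvd.intro _ (relIndex_mul_relIndex _ X _ hRX inf_le_left))
  have hPp : IsPGroup p P := isPGroup_pi_unitri b.F
  have htop : R.map f = ⊤ := by
    rw [← index_eq_one]
    obtain ⟨k, hk⟩ := hPp.index (R.map f)
    rcases k with _ | k
    · simpa using hk
    · exact absurd (((dvd_pow_self p k.succ_ne_zero).trans hk.symm.dvd).trans
        (R.index_map_dvd hf)) hRi
  obtain ⟨x, hx, hxy⟩ : (⟨y, fun i _ => hy i⟩ : P) ∈ R.map f := htop.symm ▸ mem_top _
  exact ⟨inclusion hXLC x, hx, congrArg Subtype.val hxy⟩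

/-- A set-theoretic section of the coordinates. -/
noncomputable def lift (y : ∀ i, Fin 2 → b.F i) : G := (b.ψ_surj y).choose

theorem lift_mem (y : ∀ i, Fin 2 → b.F i) : b.lift y ∈ Vm p G := (b.ψ_surj y).choose_spec.1

theorem ψ_lift (y : ∀ i, Fin 2 → b.F i) : b.ψ (b.lift y) = y := (b.ψ_surj y).choose_spec.2

/-- Conjugation by `g` in coordinates. -/
noncomputable def act (g : G) (y : ∀ i, Fin 2 → b.F i) : ∀ i, Fin 2 → b.F i :=
  b.ψ (g * b.lift y * g⁻¹)

theorem act_ψ (hp : p ≠ 2) (g : G) {v : G} (hv : v ∈ Vm p G) :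
    b.act g (b.ψ v) = b.ψ (g * v * g⁻¹) := by
  rw [act, b.ψ_eq_iff (conj_mem_Vm (b.lift_mem _)) (conj_mem_Vm hv),
    b.ψ_eq_zero_iff hp (mul_mem (conj_mem_Vm (b.lift_mem _)) (inv_mem (conj_mem_Vm hv)))]
  have h0 : b.lift (b.ψ v) * v⁻¹ ∈ centralizer (LC p G : Set G) :=
    (b.ψ_eq_zero_iff hp (mul_mem (b.lift_mem _) (inv_mem hv))).mp
      ((b.ψ_eq_iff (b.lift_mem _) hv).mp (b.ψ_lift _))
  haveI : (centralizer (LC p G : Set G)).Normal := Subgroup.normal_centralizer
  convert (inferInstance : (centralizer (LC p G : Set G)).Normal).conj_mem _ h0 g using 1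
  group

theorem act_add (hp : p ≠ 2) (g : G) (x y : ∀ i, Fin 2 → b.F i) :
    b.act g (x + y) = b.act g x + b.act g y := by
  have h1 : b.ψ (b.lift x * b.lift y) = x + y := by
    rw [b.ψ_mul _ (b.lift_mem x) _ (b.lift_mem y), b.ψ_lift, b.ψ_lift]
  rw [← h1, b.act_ψ hp g (mul_mem (b.lift_mem x) (b.lift_mem y)),
    show g * (b.lift x * b.lift y) * g⁻¹ = g * b.lift x * g⁻¹ * (g * b.lift y * g⁻¹) by group,
    b.ψ_mul _ (conj_mem_Vm (b.lift_mem x)) _ (conj_mem_Vm (b.lift_mem y))]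
  rfl

theorem act_one (hp : p ≠ 2) (y : ∀ i, Fin 2 → b.F i) : b.act 1 y = y := by
  simp [act, b.ψ_lift]

theorem act_mul (hp : p ≠ 2) (g k : G) (y : ∀ i, Fin 2 → b.F i) :
    b.act (g * k) y = b.act g (b.act k y) := by
  rw [act, act, act, show g * k * b.lift y * (g * k)⁻¹ = g * (k * b.lift y * k⁻¹) * g⁻¹ by group,
    ← b.act_ψ hp g (conj_mem_Vm (b.lift_mem y))]
  rfl

theorem act_ρ (g : ↥(LC p G)) (y : ∀ i, Fin 2 → b.F i) :
    b.act g y = fun i => (b.ρ g i : Matrix (Fin 2) (Fin 2) (b.F i)).mulVec (y i) := by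
  funext i
  rw [act, b.ψ_conj g _ (b.lift_mem y) i, b.ψ_lift]

theorem act_conj (hp : p ≠ 2) (g : G) (k : ↥(LC p G)) (y : ∀ i, Fin 2 → b.F i) :
    b.act g (fun i => (b.ρ k i : Matrix (Fin 2) (Fin 2) (b.F i)).mulVec (y i)) =
      fun i => (b.ρ ⟨g * k * g⁻¹, (inferInstance : (LC p G).Normal).conj_mem _ k.2 g⟩ i :
        Matrix (Fin 2) (Fin 2) (b.F i)).mulVec (b.act g y i) := by
  rw [← b.act_ρ, ← b.act_ρ, ← b.act_mul hp, ← b.act_mul hp]
  congr 1
  simp [mul_assoc]

end Blocks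

namespace ZGood

variable {S : Sylow p G} {b : Blocks S} {z : G} (hz : ZGood b z) (h : Setup p S)

include hz h

theorem act_fix_bottom {g : G} (hg : g ∈ Bm S) (y : ∀ i, Fin 2 → b.F i) (h0 : ∀ i, y i 1 = 0) :
    b.act g y = y := by
  have hl := hz.bottom_le_Zm h (b.lift_mem y) (fun i => by rw [b.ψ_lift]; exact h0 i)
  rw [Blocks.act, show g * b.lift y * g⁻¹ = b.lift y by
    rw [← mem_centralizer_iff.mp hg.2 _ hl, mul_inv_cancel_right], b.ψ_lift]

theorem act_bottom {g : G} (hg : g ∈ Bm S) (y : ∀ i, Fin 2 → b.F i) (i : Fin b.r) :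
    b.act g y i 1 = y i 1 := by
  let T1 : ∀ i, Matrix.SpecialLinearGroup (Fin 2) (b.F i) := fun i =>
    Matrix.SpecialLinearGroup.transvection (zero_ne_one (α := Fin 2)) 1
  obtain ⟨k, hk, hkρ⟩ := b.exists_root T1 (fun i => Linear.transvection_mem_unitriSL 1)
  set k' : ↥(LC p G) := ⟨g * k * g⁻¹, (inferInstance : (LC p G).Normal).conj_mem _ k.2 g⟩ with hk'
  have hk'S : (k' : G) ∈ (S : Subgroup G) := mul_mem (mul_mem hg.1 hk.1) (inv_mem hg.1)
  obtain ⟨a, b', c⟩ := Linear.unitriSL_two_eq.mp (b.sylow_upper k' hk'S i)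
  set t' := (b.ρ k' i : Matrix (Fin 2) (Fin 2) (b.F i)) 0 1 with ht'
  -- one relation gives proportionality
  have key : ∀ y, t' * b.act g y i 1 = y i 1 := by
    intro y
    set d : ∀ i, Fin 2 → b.F i := fun i => ![y i 1, 0] with hd
    have hsplit : (fun i => (b.ρ k i : Matrix (Fin 2) (Fin 2) (b.F i)).mulVec (y i)) = y + d := by
      funext j l
      rw [hkρ]
      fin_cases l <;> simp [T1, d, Matrix.SpecialLinearGroup.transvection_coe, Matrix.mulVec, dotProduct,
        Fin.sum_univ_two, Matrix.one_apply]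
    have h1 := b.act_conj h.odd g k y
    rw [hsplit, b.act_add h.odd, hz.act_fix_bottom h hg d (fun j => by simp [d])] at h1
    have h2 := congrFun (congrFun h1 i) 0
    simp only [Pi.add_apply, Matrix.mulVec, dotProduct, Fin.sum_univ_two, d,
      Matrix.cons_val_zero] at h2
    change b.act g y i 0 + y i 1 = (b.ρ k' i : Matrix (Fin 2) (Fin 2) (b.F i)) 0 0 * b.act g y i 0 +
      t' * b.act g y i 1 at h2
    rw [b', one_mul] at h2
    exact (add_left_cancel h2).symm
  have hne : t' ≠ 0 := fun e => by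
    have := key fun _ => ![0, 1]
    rw [e, zero_mul] at this
    exact zero_ne_one this
  have hiter : ∀ (n : ℕ) (y : ∀ i, Fin 2 → b.F i), t' ^ n * b.act (g ^ n) y i 1 = y i 1 := by
    intro n
    induction n with
    | zero => intro y; rw [pow_zero, pow_zero, one_mul, b.act_one h.odd]
    | succ n ih =>
      intro y
      rw [pow_succ' g, b.act_mul h.odd, pow_succ, mul_assoc, key, ih]
  obtain ⟨n, hn⟩ := S.isPGroup' ⟨g, hg.1⟩
  have hn' : g ^ p ^ n = 1 := by simpa using congrArg Subtype.val hn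
  have h3 := hiter (p ^ n) fun _ => ![0, 1]
  rw [hn', b.act_one h.odd] at h3
  have h4 : t' ^ p ^ n = 1 := by simpa using h3
  have h5 : t' = 1 := by
    have := sub_pow_char_pow (x := t') (y := (1 : b.F i)) (p := p) (n := n)
    rw [h4, one_pow, sub_self] at this
    exact sub_eq_zero.mp ((pow_eq_zero_iff (pow_ne_zero _ (Fact.out : p.Prime).ne_zero)).mp this)
  have := key y
  rwa [h5, one_mul] at this

/-- In coordinates, an element of the Baumann subgroup is a product of root elements. -/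
theorem exists_root_act {g : G} (hg : g ∈ Bm S) :
    ∃ k : ↥(LC p G), (k : G) ∈ (S : Subgroup G) ⊓ Lm p G ∧ ∀ y, b.act g y = b.act (k : G) y := by
  obtain ⟨l, hl⟩ := b.surj fun i => Matrix.SpecialLinearGroup.transvection (one_ne_zero (α := Fin 2)) 1
  set l' : ↥(LC p G) := ⟨g * l * g⁻¹, (inferInstance : (LC p G).Normal).conj_mem _ l.2 g⟩ with hl'
  set d : ∀ i, b.F i := fun i => (b.ρ l' i : Matrix (Fin 2) (Fin 2) (b.F i)) 0 0 - 1 with hd
  let T : ∀ i, Matrix.SpecialLinearGroup (Fin 2) (b.F i) := fun i =>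
    Matrix.SpecialLinearGroup.transvection (zero_ne_one (α := Fin 2)) (d i)
  obtain ⟨k, hk, hkρ⟩ := b.exists_root T (fun i => Linear.transvection_mem_unitriSL _)
  refine ⟨k, hk, fun y => ?_⟩
  set top : ∀ i, Fin 2 → b.F i := fun i => ![y i 0, 0] with htop
  set bot : ∀ i, Fin 2 → b.F i := fun i => ![0, y i 1] with hbot
  set x : ∀ i, Fin 2 → b.F i := fun i => ![y i 1, 0] with hx
  have hy : y = top + bot := by
    funext i j
    fin_cases j <;> simp [top, bot]
  have hMx : (fun i => (b.ρ l i : Matrix (Fin 2) (Fin 2) (b.F i)).mulVec (x i)) = x + bot := by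
    funext i j
    rw [hl]
    fin_cases j <;> simp [x, bot, Matrix.SpecialLinearGroup.transvection_coe, Matrix.mulVec, dotProduct,
      Fin.sum_univ_two, Matrix.one_apply]
  have hbotact : ∀ i, b.act g bot i 0 = d i * y i 1 := by
    intro i
    have h1 := congrFun (congrFun (b.act_conj h.odd g l x) i) 0
    rw [hMx, b.act_add h.odd, hz.act_fix_bottom h hg x (fun j => by simp [x])] at h1
    simp only [Pi.add_apply, Matrix.mulVec, dotProduct, Fin.sum_univ_two, x, Matrix.cons_val_zero,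
      Matrix.cons_val_one, mul_zero, add_zero] at h1
    simp only [hd]
    linear_combination h1
  rw [b.act_ρ k, hkρ]
  funext i j
  fin_cases j
  · conv_lhs => rw [hy, b.act_add h.odd, hz.act_fix_bottom h hg top (fun j => by simp [top])]
    simp [hbotact, top, T, Matrix.SpecialLinearGroup.transvection_coe, Matrix.mulVec, dotProduct,
      Fin.sum_univ_two, Matrix.one_apply]
  · simp [hz.act_bottom h hg y i, T, Matrix.SpecialLinearGroup.transvection_coe, Matrix.mulVec, dotProduct,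
      Fin.sum_univ_two, Matrix.one_apply]

theorem Bm_le : Bm S ≤ ((S : Subgroup G) ⊓ Lm p G) ⊔ Qm S := by
  intro g hg
  obtain ⟨k, hk, hact⟩ := hz.exists_root_act h hg
  set e := (k : G)⁻¹ * g with he
  have heB : e ∈ Bm S := mul_mem (inv_mem (hz.sylow_inf_Lm_le_Bm h hk)) hg
  have hψ : ∀ v ∈ Vm p G, b.ψ (e * v * e⁻¹) = b.ψ v := fun v hv => by
    rw [← b.act_ψ h.odd e hv, he, b.act_mul h.odd, hact, ← b.act_mul h.odd, inv_mul_cancel, b.act_one h.odd]
  have heC : e ∈ Cm p G := by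
    refine mem_centralizer_iff.mpr fun v hv => ?_
    obtain ⟨f, v', -, -, hv', hinv, hfv, hfdef⟩ := hz.split h (show v ∈ Wm S from mem_sup_left hv)
    have hfV : f ∈ Vm p G := hfdef ▸ mul_mem hv (Blocks.conj_mem_Vm hv)
    have hf0 : b.ψ f = 0 := by
      rw [hfdef, b.ψ_mul _ hv _ (Blocks.conj_mem_Vm hv)]
      funext i
      rw [Pi.add_apply, show b.ψ (z * v * z⁻¹) i = _ from b.ψ_conj ⟨z, mem_sup_left hz.mem⟩ v hv i,
        hz.neg i, Matrix.SpecialLinearGroup.coe_neg, Matrix.SpecialLinearGroup.coe_one, Matrix.neg_mulVec,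
        Matrix.one_mulVec]
      exact add_neg_cancel _
    have h1 : e * f * e⁻¹ = f := by
      rw [← mem_centralizer_iff.mp heB.2 f
        (hz.bottom_le_Zm h hfV fun i => by rw [hf0]; rfl), mul_inv_cancel_right]
    have h2 : e * v' * e⁻¹ = v' := hz.conj_eq_of_inv h hv' hinv (hψ v' hv')
    have h3 : e * v * e⁻¹ = v := by
      rw [eq_sq_pow h.odd (omegaZ_pow hv), ← conj_pow, hfv]
      congr 1
      calc e * (f * v') * e⁻¹ = (e * f * e⁻¹) * (e * v' * e⁻¹) := by group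
        _ = f * v' := by rw [h1, h2]
    exact (mul_inv_eq_iff_eq_mul.mp h3).symm
  have : g = (k : G) * e := by rw [he]; group
  rw [this]
  exact mul_mem (mem_sup_left hk) (mem_sup_right ((h.Bm_inf_Cm b).le ⟨heB, heC⟩))

end ZGood

namespace Setup

variable {S : Sylow p G} (h : Setup p S) (b : Blocks S)

include h b

theorem Qm_normal : (Qm S).Normal := by
  haveI := h.Wm_normal b
  haveI : (Cfsg.pCore p G).Normal := normal_of_characteristic _
  exact inferInstance

theorem Bm_eq : Bm S = (S : Subgroup G) ⊓ Lhat S := by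
  obtain ⟨z, hz⟩ := h.exists_zGood b
  haveI := h.Qm_normal b
  refine le_antisymm (le_inf inf_le_left ((hz.Bm_le h).trans (sup_le_sup_right inf_le_right _))) ?_
  rintro x ⟨hxS, hx⟩
  obtain ⟨l, hl, q, hq, rfl⟩ := mem_sup_of_normal_right.mp (show x ∈ Lm p G ⊔ Qm S from hx)
  have hqB := h.Qm_le_Bm b hq
  have hlS : l ∈ (S : Subgroup G) := by simpa using Subgroup.mul_mem _ hxS (Subgroup.inv_mem _ hqB.1)
  exact mul_mem (hz.sylow_inf_Lm_le_Bm h ⟨hlS, hl⟩) hqB

theorem Lhat_le_LC : Lhat S ≤ LC p G :=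
  sup_le_sup_left (inf_le_left.trans h.pCore_le_Cm) _

theorem pCore_inf_Lhat : Cfsg.pCore p G ⊓ Lhat S = Qm S := by
  refine le_antisymm (fun x hx => (h.Bm_inf_Cm b).le ⟨(h.Bm_eq b).ge ⟨Cores.pCore_le_sylow S hx.1, hx.2⟩,
    h.pCore_le_Cm hx.1⟩) (le_inf inf_le_left le_sup_right)

theorem exists_root_Bm (y : ∀ i, Matrix.SpecialLinearGroup (Fin 2) (b.F i))
    (hy : ∀ i, y i ∈ Linear.unitriSL 2 (b.F i)) :
    ∃ g : ↥(LC p G), (g : G) ∈ Bm S ∧ b.ρ g = y := by
  obtain ⟨z, hz⟩ := h.exists_zGood b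
  obtain ⟨g, hg, hgy⟩ := b.exists_root y hy
  exact ⟨g, hz.sylow_inf_Lm_le_Bm h hg, hgy⟩

end Setup

end Cfsg.Agent.H67.Focal
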